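import Mathlib

/-!
Subgroups of the alternating group of full order for a set of primes: conjugates of small `p`-subgroups inside
them, and the points their cycles cover.
-/

set_option autoImplicit false

namespace Cfsg.Agent.Lib.HallSym

open Equiv

variable {α : Type*} [Fintype α] [DecidableEq α]

/-- `G` is a `π`-subgroup of the alternating group of order divisible by the `π`-part of the order of that group. -/
structure Full (π : Set ℕ) (G : Subgroup (Perm α)) : Prop where
  le : G ≤ alternatingGroup α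
  pi : ∀ q : ℕ, q.Prime → q ∣ Nat.card G → q ∈ π
  part : ∀ q k : ℕ, q.Prime → q ∈ π → q ^ k ∣ Nat.card (alternatingGroup α) → q ^ k ∣ Nat.card G

variable {π : Set ℕ} {G : Subgroup (Perm α)}

/-- A `q`-subgroup of an overgroup of `G` has a conjugate in `G`, under that overgroup. -/
theorem Full.conj_le (hG : Full π G) {q : ℕ} (hq : q.Prime) (hqπ : q ∈ π) {Y Q : Subgroup (Perm α)} (hGY : G ≤ Y)
    (hQY : Q ≤ Y) (hQA : Q ≤ alternatingGroup α) (hQ : IsPGroup q Q) :
    ∃ y ∈ Y, ∀ x ∈ Q, y * x * y⁻¹ ∈ G := by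
  haveI : Fact q.Prime := ⟨hq⟩
  set X : Subgroup (Perm α) := Y ⊓ alternatingGroup α with hX
  have hGX : G ≤ X := le_inf hGY hG.le
  set G' : Subgroup X := G.subgroupOf X with hG'
  obtain ⟨S⟩ : Nonempty (Sylow q G') := inferInstance
  obtain ⟨P, hP⟩ := (S.2.map G'.subtype).exists_le_sylow
  have hcard : Nat.card P ≤ Nat.card ((S : Subgroup G').map G'.subtype) := by
    rw [Subgroup.card_map_of_injective G'.subtype_injective]
    obtain ⟨j, hj⟩ := P.2.exists_card_eq
    refine Nat.le_of_dvd Nat.card_pos ?_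
    rw [hj]
    refine S.pow_dvd_card_of_pow_dvd_card ?_
    rw [hG', Nat.card_congr (Subgroup.subgroupOfEquivOfLe hGX).toEquiv]
    refine hG.part q j hq hqπ ?_
    rw [← hj]
    exact (Subgroup.card_subgroup_dvd_card _).trans (Subgroup.card_dvd_of_le inf_le_right)
  have hPG : (P : Subgroup X) ≤ G' := by
    rw [← Subgroup.eq_of_le_of_card_ge hP hcard]
    exact Subgroup.map_subtype_le _
  obtain ⟨P', hP'⟩ := (hQ.comap_of_injective X.subtype X.subtype_injective).exists_le_sylow
  obtain ⟨g, hg⟩ := MulAction.exists_smul_eq X P' P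
  refine ⟨g.1, g.2.1, fun x hx => ?_⟩
  have hxX : x ∈ X := ⟨hQY hx, hQA hx⟩
  have hx' : (⟨x, hxX⟩ : X) ∈ (P' : Subgroup X) := hP' hx
  have h2 : g * ⟨x, hxX⟩ * g⁻¹ ∈ (P : Subgroup X) := by
    rw [← hg, Sylow.coe_subgroup_smul]
    exact Subgroup.smul_mem_pointwise_smul _ (MulAut.conj g) _ hx'
  exact hPG h2

/-- The stabiliser of a set of points. -/
def setStab (D : Finset α) : Subgroup (Perm α) where
  carrier := {g | ∀ a, g a ∈ D ↔ a ∈ D}
  one_mem' := fun _ => Iff.rfl
  mul_mem' := fun {g h} hg hh a => by rw [Perm.mul_apply, hg, hh]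
  inv_mem' := fun {g} hg a => by rw [← hg]; simp

theorem mem_setStab_of_support_subset {D : Finset α} {g : Perm α} (h : g.support ⊆ D) : g ∈ setStab D := by
  intro a
  by_cases ha : a ∈ g.support
  · exact iff_of_true (h (Perm.apply_mem_support.2 ha)) (h ha)
  · rw [Perm.notMem_support.1 ha]

theorem support_conj_subset {D : Finset α} {g y : Perm α} (hy : y ∈ setStab D) (h : g.support ⊆ D) :
    (y * g * y⁻¹).support ⊆ D := by
  intro a ha
  rw [Perm.support_conj, Finset.mem_map] at ha
  obtain ⟨b, hb, rfl⟩ := ha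
  exact (hy b).2 (h hb)

/-- If the `G`-invariant set `D` carries a `q`-subgroup of the alternating group, then a conjugate of this subgroup
with the same property lies in `G`. -/
theorem Full.conj_le_on (hG : Full π G) {q : ℕ} (hq : q.Prime) (hqπ : q ∈ π) {D : Finset α} (hGD : G ≤ setStab D)
    {Q : Subgroup (Perm α)} (hQD : ∀ x ∈ Q, x.support ⊆ D) (hQA : Q ≤ alternatingGroup α) (hQ : IsPGroup q Q) :
    ∃ y : Perm α, ∀ x ∈ Q, y * x * y⁻¹ ∈ G ∧ (y * x * y⁻¹).support ⊆ D := by
  obtain ⟨y, hy, h⟩ := hG.conj_le hq hqπ hGD (fun x hx => mem_setStab_of_support_subset (hQD x hx)) hQA hQ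
  exact ⟨y, fun x hx => ⟨h x hx, support_conj_subset hy (hQD x hx)⟩⟩

theorem isPGroup_zpowers {q : ℕ} {x : Perm α} {j : ℕ} (h : x ^ q ^ j = 1) : IsPGroup q (Subgroup.zpowers x) := by
  rintro ⟨g, hg⟩
  obtain ⟨i, rfl⟩ := Subgroup.mem_zpowers_iff.1 hg
  refine ⟨j, Subtype.ext ?_⟩
  show (x ^ i) ^ q ^ j = 1
  rw [← zpow_natCast, ← zpow_mul, mul_comm, zpow_mul, zpow_natCast, h, one_zpow]

theorem support_zpowers_subset {x g : Perm α} (hg : g ∈ Subgroup.zpowers x) : g.support ⊆ x.support := by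
  obtain ⟨i, rfl⟩ := Subgroup.mem_zpowers_iff.1 hg
  exact Perm.support_zpow_le x i

/-- A cycle of the length of an odd prime on any set large enough. -/
theorem exists_prime_cycle {q : ℕ} (hq : q.Prime) (hq2 : q ≠ 2) {D : Finset α} (hD : q ≤ D.card) :
    ∃ x : Perm α, x.IsCycle ∧ x.support ⊆ D ∧ x.support.card = q ∧ x ∈ alternatingGroup α ∧ x ^ q = 1 := by
  obtain ⟨S, hSD, hS⟩ := Finset.exists_subset_card_eq hD
  have hlen : S.toList.length = q := by rw [Finset.length_toList, hS]
  have h2 := hq.two_le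
  have hcyc : S.toList.formPerm.IsCycle := List.isCycle_formPerm S.nodup_toList (by omega)
  have hsupp : S.toList.formPerm.support = S := by
    rw [List.support_formPerm_of_nodup _ S.nodup_toList (fun x hx => by rw [hx] at hlen; simp at hlen; omega),
      Finset.toList_toFinset]
  refine ⟨_, hcyc, hsupp.trans_subset hSD, by rw [hsupp, hS], ?_, ?_⟩
  · rw [Perm.mem_alternatingGroup, hcyc.sign, hsupp, hS, (hq.odd_of_ne_two hq2).neg_one_pow, neg_neg]
  · have ho : orderOf S.toList.formPerm = q := by rw [hcyc.orderOf, hsupp, hS]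
    rw [← ho]
    exact pow_orderOf_eq_one _

/-- The points moved by a cycle of length `q` in `G`. -/
noncomputable def cycleFree (G : Subgroup (Perm α)) (q : ℕ) : Finset α := by
  classical exact {a | ∀ g ∈ G, g.IsCycle → g.support.card = q → a ∉ g.support}

theorem mem_cycleFree {q : ℕ} {a : α} :
    a ∈ cycleFree G q ↔ ∀ g ∈ G, g.IsCycle → g.support.card = q → a ∉ g.support := by
  classical simp [cycleFree]

theorem le_setStab_cycleFree (q : ℕ) : G ≤ setStab (cycleFree G q) := by
  intro h hh a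
  rw [mem_cycleFree, mem_cycleFree]
  constructor
  · intro H g hg hc hq ha
    refine H (h * g * h⁻¹) (mul_mem (mul_mem hh hg) (inv_mem hh)) hc.conj (by rw [Perm.card_support_conj, hq]) ?_
    rw [Perm.support_conj]
    exact Finset.mem_map_of_mem _ ha
  · intro H g hg hc hq ha
    refine H (h⁻¹ * g * h) (mul_mem (mul_mem (inv_mem hh) hg) hh) ?_ ?_ ?_
    · simpa using hc.conj (g := h⁻¹)
    · simpa [hq] using Perm.card_support_conj (σ := h⁻¹) (τ := g)
    · rw [Perm.mem_support] at ha ⊢
      simp only [Perm.mul_apply]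
      intro h'
      exact ha (by simpa using congrArg h h')

/-- Fewer than `q` points avoid all `q`-cycles of `G`. -/
theorem Full.card_cycleFree_lt (hG : Full π G) {q : ℕ} (hq : q.Prime) (hqπ : q ∈ π) (hq2 : q ≠ 2) :
    (cycleFree G q).card < q := by
  by_contra hlt
  obtain ⟨x, hc, hD, hcard, hA, hx⟩ := exists_prime_cycle hq hq2 (not_lt.1 hlt)
  obtain ⟨y, hy⟩ := hG.conj_le_on hq hqπ (le_setStab_cycleFree q)
    (fun g hg => (support_zpowers_subset hg).trans hD) (Subgroup.zpowers_le.2 hA)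
    (isPGroup_zpowers (j := 1) (by rw [pow_one, hx]))
  obtain ⟨h1, h2⟩ := hy x (Subgroup.mem_zpowers x)
  have hc' : (y * x * y⁻¹).IsCycle := hc.conj
  obtain ⟨a, ha⟩ := hc'.nonempty_support
  exact mem_cycleFree.1 (h2 ha) _ h1 hc' (by rw [Perm.card_support_conj, hcard]) ha

end Cfsg.Agent.Lib.HallSym
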