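import Cfsg.Agent.S0144
import Cfsg.Agent.Lib.Hall.Basic
import Mathlib

/-!
The group induced on a set of points, cycles of prime length and blocks, and transitive groups of prime degree.
-/

set_option autoImplicit false

namespace Cfsg.Agent.Lib.HallSym

open Equiv MulAction
open scoped Pointwise

variable {α : Type*} [Fintype α] [DecidableEq α]

/-- The part of `G` living on `U`, as a permutation group of `U`. -/
def onSet (G : Subgroup (Perm α)) (U : Finset α) : Subgroup (Perm {a // a ∈ U}) :=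
  G.comap Perm.ofSubtype

theorem card_onSet_dvd (G : Subgroup (Perm α)) (U : Finset α) : Nat.card (onSet G U) ∣ Nat.card G :=
  Subgroup.card_comap_dvd_of_injective G _ Perm.ofSubtype_injective

theorem apply_mem_of_support_subset {U : Finset α} {g : Perm α} (h : g.support ⊆ U) (a : α) :
    g a ∈ U ↔ a ∈ U := by
  by_cases ha : a ∈ g.support
  · exact iff_of_true (h (Perm.apply_mem_support.2 ha)) (h ha)
  · rw [Perm.notMem_support.1 ha]

/-- An element living on `U`, restricted. -/
def restrictTo {U : Finset α} (g : Perm α) (h : g.support ⊆ U) : Perm {a // a ∈ U} :=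
  g.subtypePerm (apply_mem_of_support_subset h)

theorem ofSubtype_restrictTo {U : Finset α} {g : Perm α} (h : g.support ⊆ U) :
    Perm.ofSubtype (restrictTo g h) = g :=
  Perm.ofSubtype_subtypePerm _ fun x hx => h (Perm.mem_support.2 hx)

theorem restrictTo_mem {G : Subgroup (Perm α)} {U : Finset α} {g : Perm α} (hg : g ∈ G) (h : g.support ⊆ U) :
    restrictTo g h ∈ onSet G U := by
  rw [onSet, Subgroup.mem_comap, ofSubtype_restrictTo]
  exact hg

variable {β : Type*} [Fintype β] [DecidableEq β] {K : Subgroup (Perm β)}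

theorem zpow_cycle_coprime {x : Perm β} {r : ℕ} (hr : r.Prime) (hxr : orderOf x = r) {i : ℤ}
    (hi : ¬ (r : ℤ) ∣ i) : ∃ j : ℤ, x = (x ^ i) ^ j := by
  have hg : Int.gcd i r = 1 := by
    rw [Int.gcd_eq_natAbs, Int.natAbs_natCast, ← Nat.coprime_iff_gcd_eq_one, Nat.coprime_comm,
      hr.coprime_iff_not_dvd]
    exact fun h => hi (Int.natCast_dvd.2 h)
  refine ⟨Int.gcdA i r, ?_⟩
  have h := Int.gcd_eq_gcd_ab i r
  rw [hg] at h
  calc x = x ^ ((1 : ℕ) : ℤ) := by simp
    _ = x ^ (i * Int.gcdA i r + (r : ℤ) * Int.gcdB i r) := by rw [h]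
    _ = _ := by
      rw [zpow_add, zpow_mul, zpow_mul, zpow_natCast, ← hxr, pow_orderOf_eq_one, one_zpow, mul_one]

/-- A block with two points is invariant under every cycle of prime length in the group. -/
theorem block_invariant {B : Set β} (hB : IsBlock K B) (hnt : B.Nontrivial) {x : Perm β} (hxK : x ∈ K)
    (hxc : x.IsCycle) (hxr : x.support.card.Prime) {b : β} (hb : b ∈ B) (hbs : b ∈ x.support) :
    ∀ c ∈ x.support, c ∈ B := by
  set X : K := ⟨x, hxK⟩
  have hord : orderOf x = x.support.card := hxc.orderOf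
  have hstab : X ∈ stabilizer K B := by
    rcases isBlock_iff_smul_eq_or_disjoint.1 hB X with h | h
    · exact h
    have hsub : ∀ c ∈ B, c ∈ x.support := by
      intro c hc
      by_contra hcs
      exact (Set.disjoint_left.1 h ⟨c, hc, Perm.notMem_support.1 hcs⟩ hc)
    obtain ⟨c, hc, hcb⟩ := hnt.exists_ne b
    obtain ⟨i, hi⟩ := hxc.sameCycle (Perm.mem_support.1 hbs) (Perm.mem_support.1 (hsub c hc))
    have hXi : X ^ i ∈ stabilizer K B := by
      refine (isBlock_iff_smul_eq_of_nonempty.1 hB) ⟨c, ⟨b, hb, ?_⟩, hc⟩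
      show ((X ^ i : K) : Perm β) b = c
      rw [Subgroup.coe_zpow]
      exact hi
    have hi' : ¬ (x.support.card : ℤ) ∣ i := by
      rw [← hord, orderOf_dvd_iff_zpow_eq_one]
      intro h1
      rw [h1] at hi
      exact hcb hi.symm
    obtain ⟨j, hj⟩ := zpow_cycle_coprime hxr hord hi'
    have : X = (X ^ i) ^ j := Subtype.ext (by simpa using hj)
    rw [this]
    exact zpow_mem hXi j
  intro c hc
  obtain ⟨i, hi⟩ := hxc.sameCycle (Perm.mem_support.1 hbs) (Perm.mem_support.1 hc)
  have h := zpow_mem hstab i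
  rw [mem_stabilizer_iff] at h
  rw [← h]
  exact ⟨b, hb, by show ((X ^ i : K) : Perm β) b = c; rw [Subgroup.coe_zpow]; exact hi⟩

/-- A transitive group of prime degree and of order without prime factors beyond this degree and 2 has no two
commuting involutions. -/
theorem no_fours_of_prime_degree [IsPretransitive K β] {r : ℕ} (hr : r.Prime) (hr2 : r ≠ 2)
    (hcard : Fintype.card β = r) (hpr : ∀ q : ℕ, q.Prime → q ∣ Nat.card K → q = 2 ∨ q = r)
    {v w : Perm β} (hvK : v ∈ K) (hwK : w ∈ K) (hv : v * v = 1) (hw : w * w = 1) (hv1 : v ≠ 1) (hw1 : w ≠ 1)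
    (hvw : v ≠ w) (hcomm : v * w = w * v) : False := by
  haveI : Fact r.Prime := ⟨hr⟩
  haveI : Group.IsSolvable K := by
    refine Cfsg.Agent.S0144.result 2 r ((Nat.card K).factorization 2) ((Nat.card K).factorization r) Nat.prime_two hr ?_
    have h0 : Nat.card K ≠ 0 := Nat.card_pos.ne'
    refine Nat.eq_of_factorization_eq h0 (by simp [hr.ne_zero]) fun q => ?_
    rw [Nat.factorization_mul (by simp) (by simp [hr.ne_zero]), Nat.Prime.factorization_pow Nat.prime_two,
      Nat.Prime.factorization_pow hr, Finsupp.add_apply, Finsupp.single_apply, Finsupp.single_apply]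
    by_cases hq : q.Prime ∧ q ∣ Nat.card K
    · rcases hpr q hq.1 hq.2 with rfl | rfl
      · rw [if_pos rfl, if_neg hr2, add_zero]
      · rw [if_neg (Ne.symm hr2), if_pos rfl, zero_add]
    · rw [not_and] at hq
      have hz : (Nat.card K).factorization q = 0 := by
        by_cases hqp : q.Prime
        · exact Nat.factorization_eq_zero_of_not_dvd (hq hqp)
        · exact Nat.factorization_eq_zero_of_not_prime _ hqp
      split_ifs <;> subst_vars <;> simp_all
  haveI : Nontrivial K := ⟨⟨⟨v, hvK⟩, 1, fun h => hv1 (congrArg Subtype.val h)⟩⟩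
  obtain ⟨p, N, -, hNn, hNne, hNcomm, -⟩ := Cfsg.Agent.Lib.Hall.exists_normal_abelian_pgroup (G := K)
  have hNtrans : ∀ a b : β, ∃ g ∈ N, (g : Perm β) a = b := by
    intro a b
    have hblock : IsBlock K (orbit N a) := IsBlock.orbit_of_normal a
    have hd := hblock.ncard_dvd_card ⟨a, mem_orbit_self a⟩
    rw [Nat.card_eq_fintype_card, hcard] at hd
    rcases hr.eq_one_or_self_of_dvd _ hd with h1 | h1
    · exfalso
      obtain ⟨c, hc⟩ := Set.ncard_eq_one.1 h1
      refine hNne ((Subgroup.eq_bot_iff_forall N).2 fun g hg => Subtype.ext (Equiv.ext fun d => ?_))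
      obtain ⟨k, hk⟩ := exists_smul_eq K a d
      have h2 : ∀ h ∈ N, h • a = a := fun h hh => by
        have e1 : h • a = c := Set.mem_singleton_iff.1 (hc ▸ (⟨⟨h, hh⟩, rfl⟩ : h • a ∈ orbit N a))
        have e2 : a = c := Set.mem_singleton_iff.1 (hc ▸ mem_orbit_self (M := N) a)
        rw [e1, ← e2]
      have h3 := h2 _ (hNn.conj_mem' g hg k)
      rw [mul_smul, mul_smul, hk, inv_smul_eq_iff, hk] at h3
      exact h3
    · have h2 : orbit N a = Set.univ := Set.eq_of_subset_of_ncard_le (Set.subset_univ _)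
        (by rw [Set.ncard_univ, Nat.card_eq_fintype_card, hcard, h1])
      obtain ⟨g, hg⟩ := (h2.symm ▸ Set.mem_univ b : b ∈ orbit N a)
      exact ⟨g.1, g.2, hg⟩
  haveI : Nonempty β := Fintype.card_pos_iff.1 (hcard ▸ hr.pos)
  obtain ⟨a⟩ := ‹Nonempty β›
  -- regular, self-centralising
  have hreg : ∀ z : K, (∀ g ∈ N, z * g = g * z) → (z : Perm β) a = a → z = 1 := by
    intro z hz hza
    refine Subtype.ext (Equiv.ext fun b => ?_)
    obtain ⟨g, hg, rfl⟩ := hNtrans a b
    have := DFunLike.congr_fun (congrArg Subtype.val (hz g hg)) a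
    simp only [Subgroup.coe_mul, Perm.mul_apply, hza] at this
    exact this
  have hcardN : Nat.card N = r := by
    rw [← hcard, ← Nat.card_eq_fintype_card]
    refine Nat.card_congr (Equiv.ofBijective (fun g : N => ((g : K) : Perm β) a) ⟨fun g h hgh => ?_, fun b => ?_⟩)
    · have hmem : (g : K)⁻¹ * h ∈ N := mul_mem (inv_mem g.2) h.2
      have h1 := hreg ((g : K)⁻¹ * h) (fun k hk => hNcomm _ hmem k hk) (by
        have hgh' : ((g : K) : Perm β) a = ((h : K) : Perm β) a := hgh
        simp [← hgh'])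
      exact Subtype.ext (inv_mul_eq_one.1 h1)
    · obtain ⟨g, hg, hgb⟩ := hNtrans a b
      exact ⟨⟨g, hg⟩, hgb⟩
  have hcent : ∀ z : K, z * z = 1 → (∀ g ∈ N, z * g = g * z) → z = 1 := by
    intro z hzz hz
    obtain ⟨g, hg, hga⟩ := hNtrans a ((z : Perm β) a)
    have h1 : g⁻¹ * z = 1 := hreg _ (fun k hk => by
      rw [mul_assoc, hz k hk, ← mul_assoc, hNcomm _ (inv_mem hg) k hk, mul_assoc])
      (by simp [← hga])
    have hzg : z = g := (inv_mul_eq_one.1 h1).symm
    have h2 : orderOf z ∣ 2 := orderOf_dvd_of_pow_eq_one (by rw [sq, hzz])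
    have h3 : orderOf z ∣ r := by
      rw [hzg, ← hcardN]
      exact Subgroup.orderOf_dvd_natCard N hg
    exact orderOf_eq_one_iff.1 (Nat.eq_one_of_dvd_coprimes ((Nat.coprime_primes Nat.prime_two hr).2 (Ne.symm hr2)) h2 h3)
  haveI : Nontrivial N := Finite.one_lt_card_iff_nontrivial.1 (by rw [hcardN]; exact hr.one_lt)
  obtain ⟨⟨e, he⟩, he1⟩ := exists_ne (1 : N)
  have hgen : ∀ g ∈ N, ∃ i : ℤ, e ^ i = g := by
    intro g hg
    have h := mem_zpowers_of_prime_card hcardN (g := (⟨e, he⟩ : N)) (g' := ⟨g, hg⟩) he1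
    obtain ⟨i, hi⟩ := Subgroup.mem_zpowers_iff.1 h
    exact ⟨i, by simpa using congrArg Subtype.val hi⟩
  have hord : orderOf e = r := by
    have h := Subgroup.orderOf_dvd_natCard N he
    rw [hcardN] at h
    exact (hr.eq_one_or_self_of_dvd _ h).resolve_left fun h1 => he1 (Subtype.ext (orderOf_eq_one_iff.1 h1))
  have hcase : ∀ z : K, z * z = 1 → z * e = e * z ∨ z * e = e⁻¹ * z := by
    intro z hz
    have hzi : z⁻¹ = z := inv_eq_of_mul_eq_one_right hz
    obtain ⟨i, hi⟩ := hgen (z * e * z⁻¹) (hNn.conj_mem e he z)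
    have h2 : e ^ (i * i) = e := by
      rw [zpow_mul, hi, conj_zpow, hi, hzi, show z * (z * e * z) * z = (z * z) * e * (z * z) by group, hz]
      simp
    have h4 : (r : ℤ) ∣ i * i - 1 := by
      rw [← hord, orderOf_dvd_iff_zpow_eq_one, zpow_sub, h2, zpow_one, mul_inv_cancel]
    rw [show i * i - 1 = (i - 1) * (i + 1) by ring] at h4
    have hze : z * e = e ^ i * z := by rw [hi, inv_mul_cancel_right]
    rcases (Nat.prime_iff_prime_int.1 hr).dvd_or_dvd h4 with h5 | h5
    · left
      rw [hze]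
      congr 1
      rw [← hord, orderOf_dvd_iff_zpow_eq_one, zpow_sub, zpow_one, mul_inv_eq_one] at h5
      exact h5
    · right
      rw [hze]
      congr 1
      rw [← hord, orderOf_dvd_iff_zpow_eq_one, zpow_add, zpow_one, mul_eq_one_iff_eq_inv] at h5
      exact h5
  have hall : ∀ z : K, z * z = 1 → z * e = e * z → z = 1 := by
    intro z hz hze
    refine hcent z hz fun g hg => ?_
    obtain ⟨i, rfl⟩ := hgen g hg
    exact (Commute.zpow_right hze i).eq
  set V : K := ⟨v, hvK⟩
  set W : K := ⟨w, hwK⟩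
  have hV : V * V = 1 := Subtype.ext hv
  have hW : W * W = 1 := Subtype.ext hw
  have hVW : V * W = W * V := Subtype.ext hcomm
  rcases hcase V hV with h1 | h1
  · exact hv1 (congrArg Subtype.val (hall V hV h1))
  rcases hcase W hW with h2 | h2
  · exact hw1 (congrArg Subtype.val (hall W hW h2))
  have h3 : V * W = 1 := by
    refine hall _ ?_ ?_
    · rw [mul_assoc, ← mul_assoc W, ← hVW, mul_assoc, hW, mul_one, hV]
    · have h1' : V * e⁻¹ = e * V := by
        rw [mul_inv_eq_iff_eq_mul, mul_assoc, h1, ← mul_assoc, mul_inv_cancel, one_mul]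
      rw [mul_assoc, h2, ← mul_assoc, h1', mul_assoc]
  refine hvw ?_
  have h4 : V = W := by
    calc V = V * (W * W) := by rw [hW, mul_one]
      _ = V * W * W := (mul_assoc _ _ _).symm
      _ = W := by rw [h3, one_mul]
  exact congrArg Subtype.val h4

end Cfsg.Agent.Lib.HallSym
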