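import Cfsg.Agent.Lib.HallSym.Full
import Cfsg.Agent.Lib.HallSym.Restrict

/-!
The prime sets without 2, and those with 2 but without 3, have no full subgroups in alternating groups.
-/

set_option autoImplicit false

namespace Cfsg.Agent.Lib.HallSym

open Equiv MulAction Finset
open scoped Pointwise

variable {α : Type*} [Fintype α] [DecidableEq α]
variable {β : Type*} [Fintype β] [DecidableEq β] {K : Subgroup (Perm β)}

theorem isPretransitive_of_reach (a : β) (h : ∀ b : β, ∃ g ∈ K, g a = b) : IsPretransitive K β := by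
  refine ⟨fun b c => ?_⟩
  obtain ⟨g, hg, rfl⟩ := h b
  obtain ⟨g', hg', rfl⟩ := h c
  exact ⟨⟨g', hg'⟩ * ⟨g, hg⟩⁻¹, by show (g' * g⁻¹) (g a) = g' a; simp⟩

theorem reach_of_cycle {x : Perm β} (hxK : x ∈ K) (hxc : x.IsCycle) {a b : β} (ha : a ∈ x.support)
    (hb : b ∈ x.support) : ∃ g ∈ K, g a = b := by
  obtain ⟨i, hi⟩ := hxc.sameCycle (Perm.mem_support.1 ha) (Perm.mem_support.1 hb)
  exact ⟨x ^ i, zpow_mem hxK i, hi⟩

/-- Two cycles of prime length with a common point and no common fixed point. -/
theorem preprimitive_of_two_cycles {x y : Perm β} (hx : x ∈ K) (hy : y ∈ K) (hxc : x.IsCycle) (hyc : y.IsCycle)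
    (hxp : x.support.card.Prime) (hyp : y.support.card.Prime) {a : β} (hax : a ∈ x.support) (hay : a ∈ y.support)
    (hcover : ∀ b, b ∈ x.support ∨ b ∈ y.support) : IsPreprimitive K β := by
  haveI : IsPretransitive K β := isPretransitive_of_reach a fun b =>
    (hcover b).elim (reach_of_cycle hx hxc hax) (reach_of_cycle hy hyc hay)
  refine ⟨fun {B} hB => B.subsingleton_or_nontrivial.imp id fun hnt => Set.eq_univ_of_forall fun b => ?_⟩
  obtain ⟨c, hc⟩ := hnt.nonempty
  have haB : a ∈ B := (hcover c).elim (fun h => block_invariant hB hnt hx hxc hxp hc h a hax)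
    fun h => block_invariant hB hnt hy hyc hyp hc h a hay
  exact (hcover b).elim (block_invariant hB hnt hx hxc hxp haB hax b) (block_invariant hB hnt hy hyc hyp haB hay b)

/-- Jordan: a primitive group with a cycle of prime length and `n + 1` fixed points. -/
theorem multiply_of_cycle (hK : IsPreprimitive K β) {x : Perm β} (hx : x ∈ K) (hxc : x.IsCycle)
    (hxp : x.support.card.Prime) {n : ℕ} (hn : x.support.card + (n + 1) = Fintype.card β) :
    IsMultiplyPretransitive K β (n + 2) := by
  have h2 := hxp.two_le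
  have hs : ((x.support : Set β)ᶜ).ncard = n + 1 := by
    apply Nat.add_left_cancel (n := x.support.card)
    rw [← Set.ncard_coe_finset, Set.ncard_add_ncard_compl, Nat.card_eq_fintype_card, Set.ncard_coe_finset, hn]
  haveI := Perm.isPretransitive_of_isCycle_mem hxc hx
  haveI : IsMultiplyPreprimitive K β (n + 2) :=
    hK.isMultiplyPreprimitive hs (by rw [Nat.card_eq_fintype_card]; omega) (IsPreprimitive.of_prime_card (by
      convert hxp using 1
      classical
      rw [Nat.card_eq_fintype_card, Fintype.card_subtype]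
      congr 1
      ext a
      simp [SubMulAction.mem_ofFixingSubgroup_iff]))
  exact IsMultiplyPreprimitive.isMultiplyPretransitive ..

theorem descFactorial_dvd_card {k : ℕ} (h : IsMultiplyPretransitive K β k) (hk : k ≤ Fintype.card β) :
    (Fintype.card β).descFactorial k ∣ Nat.card K := by
  obtain ⟨S, -, hS⟩ := exists_subset_card_eq (show k ≤ (univ : Finset β).card by rwa [card_univ])
  have e := h.index_of_fixingSubgroup_mul (s := (S : Set β)) (by rw [Set.ncard_coe_finset, hS])
  rw [Nat.card_eq_fintype_card (α := β), ← Nat.factorial_mul_descFactorial hk,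
    mul_comm (Fintype.card β - k).factorial] at e
  rw [← Nat.eq_of_mul_eq_mul_right (Nat.factorial_pos _) e]
  exact Subgroup.index_dvd_card _

variable {π : Set ℕ} {G : Subgroup (Perm α)}

theorem support_restrictTo {U : Finset α} {g : Perm α} (h : g.support ⊆ U) :
    (restrictTo g h).support.map (Function.Embedding.subtype _) = g.support := by
  have e := Perm.support_ofSubtype (restrictTo g h)
  rw [ofSubtype_restrictTo h] at e
  rw [e]
  ext a
  simp

theorem card_support_restrictTo {U : Finset α} {g : Perm α} (h : g.support ⊆ U) :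
    (restrictTo g h).support.card = g.support.card := by
  rw [← support_restrictTo h, card_map]

theorem mem_support_restrictTo {U : Finset α} {g : Perm α} (h : g.support ⊆ U) {a : {a // a ∈ U}} :
    a ∈ (restrictTo g h).support ↔ a.1 ∈ g.support := by
  rw [Perm.mem_support, Perm.mem_support, Ne, Subtype.ext_iff]
  rfl

theorem isCycle_restrictTo {U : Finset α} {g : Perm α} (h : g.support ⊆ U) (hc : g.IsCycle) :
    (restrictTo g h).IsCycle := by
  rw [← ofSubtype_restrictTo h, ← Perm.card_cycleType_eq_one, Perm.cycleType_ofSubtype,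
    Perm.card_cycleType_eq_one] at hc
  exact hc

/-- A set of primes without 2 and with two primes up to the degree. -/
theorem Full.false_of_two_odd (hG : Full π G) (h2 : 2 ∉ π) {r s : ℕ} (hr : r.Prime) (hs : s.Prime) (hrπ : r ∈ π)
    (hsπ : s ∈ π) (hrs : r < s) (hsn : s ≤ Fintype.card α) : False := by
  have hr2 : r ≠ 2 := fun h => h2 (h ▸ hrπ)
  have hs2 : s ≠ 2 := fun h => h2 (h ▸ hsπ)
  have hr' := hr.two_le
  have hA := hG.card_cycleFree_lt hr hrπ hr2
  have hB := hG.card_cycleFree_lt hs hsπ hs2
  obtain ⟨y₀, hy₀, hy₀c, hy₀s⟩ : ∃ g ∈ G, g.IsCycle ∧ g.support.card = s := by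
    by_contra hne
    push_neg at hne
    have : cycleFree G s = univ := eq_univ_of_forall fun a => mem_cycleFree.2 fun g hg hc hq => absurd hq (hne g hg hc)
    rw [this, card_univ] at hB
    omega
  have hB' : (cycleFree G s).card + s ≤ Fintype.card α := by
    have e := card_union_of_disjoint (s := cycleFree G s) (t := y₀.support) (disjoint_left.2 fun a ha ha' => mem_cycleFree.1 ha y₀ hy₀ hy₀c hy₀s ha')
    have := card_le_univ (cycleFree G s ∪ y₀.support)
    omega
  obtain ⟨a, ha⟩ : ∃ a, a ∉ cycleFree G r ∪ cycleFree G s := by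
    by_contra hne
    push_neg at hne
    have := card_union_le (cycleFree G r) (cycleFree G s)
    rw [eq_univ_of_forall hne, card_univ] at this
    omega
  rw [mem_union, mem_cycleFree, mem_cycleFree] at ha
  push_neg at ha
  obtain ⟨⟨x, hx, hxc, hxr, hax⟩, ⟨y, hy, hyc, hys, hay⟩⟩ := ha
  set U := x.support ∪ y.support with hU
  have hxU : x.support ⊆ U := subset_union_left
  have hyU : y.support ⊆ U := subset_union_right
  have hp := preprimitive_of_two_cycles (restrictTo_mem hx hxU) (restrictTo_mem hy hyU) (isCycle_restrictTo hxU hxc)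
    (isCycle_restrictTo hyU hyc) (by rwa [card_support_restrictTo, hxr]) (by rwa [card_support_restrictTo, hys])
    (a := ⟨a, hxU hax⟩) ((mem_support_restrictTo hxU).2 hax) ((mem_support_restrictTo hyU).2 hay) (fun b => by
      rw [mem_support_restrictTo, mem_support_restrictTo]
      exact mem_union.1 b.2)
  have hsU : s ≤ U.card := hys ▸ card_le_card hyU
  obtain ⟨n, hn⟩ : ∃ n, U.card = r + (n + 1) := ⟨U.card - r - 1, by omega⟩
  have hm := multiply_of_cycle hp (restrictTo_mem hx hxU) (isCycle_restrictTo hxU hxc)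
    (by rwa [card_support_restrictTo, hxr]) (n := n) (by rw [card_support_restrictTo, hxr, Fintype.card_coe, hn])
  have h2' : IsMultiplyPretransitive (onSet G U) {a // a ∈ U} 2 :=
    isMultiplyPretransitive_of_le (n := n + 2) (by omega) (by
      rw [Nat.card_eq_fintype_card, Fintype.card_coe, hn]
      omega)
  have hd := (Nat.factorial_dvd_descFactorial _ 2).trans (descFactorial_dvd_card h2' (by rw [Fintype.card_coe]; omega))
  exact h2 (hG.pi 2 Nat.prime_two (hd.trans (card_onSet_dvd G U)))

/-- Two double transpositions generating a regular four-group on a set of four points. -/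
structure IsFours (v w : Perm α) (S : Finset α) : Prop where
  card : S.card = 4
  supp_v : v.support = S
  supp_w : w.support = S
  sq_v : v * v = 1
  sq_w : w * w = 1
  comm : v * w = w * v
  ne : v ≠ w
  orbit : ∀ a ∈ S, ∀ b ∈ S, b = a ∨ b = v a ∨ b = w a ∨ b = v (w a)

theorem IsFours.conj {v w : Perm α} {S : Finset α} (h : IsFours v w S) (y : Perm α) :
    IsFours (y * v * y⁻¹) (y * w * y⁻¹) (S.map y.toEmbedding) where
  card := by rw [card_map, h.card]
  supp_v := by rw [Perm.support_conj, h.supp_v]
  supp_w := by rw [Perm.support_conj, h.supp_w]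
  sq_v := by rw [show y * v * y⁻¹ * (y * v * y⁻¹) = y * (v * v) * y⁻¹ by group, h.sq_v]; simp
  sq_w := by rw [show y * w * y⁻¹ * (y * w * y⁻¹) = y * (w * w) * y⁻¹ by group, h.sq_w]; simp
  comm := by
    rw [show y * v * y⁻¹ * (y * w * y⁻¹) = y * (v * w) * y⁻¹ by group, h.comm]
    group
  ne := fun e => h.ne (mul_left_cancel (mul_right_cancel e))
  orbit := by
    intro a ha b hb
    rw [mem_map] at ha hb
    obtain ⟨a, ha, rfl⟩ := ha
    obtain ⟨b, hb, rfl⟩ := hb
    rcases h.orbit a ha b hb with e | e | e | e <;> subst e <;> simp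

/-- The points moved by no four-group of `G`. -/
noncomputable def foursFree (G : Subgroup (Perm α)) : Finset α := by
  classical exact {a | ∀ v ∈ G, ∀ w ∈ G, ∀ S, IsFours v w S → a ∉ S}

theorem mem_foursFree {a : α} : a ∈ foursFree G ↔ ∀ v ∈ G, ∀ w ∈ G, ∀ S, IsFours v w S → a ∉ S := by
  classical simp [foursFree]

theorem le_setStab_foursFree : G ≤ setStab (foursFree G) := by
  intro h hh a
  rw [mem_foursFree, mem_foursFree]
  have key : ∀ y ∈ G, ∀ v ∈ G, y * v * y⁻¹ ∈ G := fun y hy v hv => mul_mem (mul_mem hy hv) (inv_mem hy)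
  constructor
  · intro H v hv w hw S hS ha
    exact H _ (key h hh v hv) _ (key h hh w hw) _ (hS.conj h) (mem_map_of_mem _ ha)
  · intro H v hv w hw S hS ha
    refine H _ (key _ (inv_mem hh) v hv) _ (key _ (inv_mem hh) w hw) _ (hS.conj h⁻¹) ?_
    exact mem_map.2 ⟨h a, ha, by simp⟩

/-- The regular four-group of degree 4. -/
def klein4 : Subgroup (Perm (Fin 4)) where
  carrier := {g | g ∈ [1, swap 0 1 * swap 2 3, swap 0 2 * swap 1 3, swap 0 3 * swap 1 2]}
  one_mem' := by decide
  mul_mem' := by
    have h : ∀ x ∈ [1, swap 0 1 * swap 2 3, swap 0 2 * swap 1 3, swap 0 3 * swap 1 2],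
        ∀ y ∈ [1, swap 0 1 * swap 2 3, swap 0 2 * swap 1 3, swap 0 3 * swap 1 2],
        x * y ∈ ([1, swap 0 1 * swap 2 3, swap 0 2 * swap 1 3, swap 0 3 * swap 1 2] : List (Perm (Fin 4))) := by
      decide +kernel
    exact fun {x y} hx hy => h x hx y hy
  inv_mem' := by
    have h : ∀ x ∈ [1, swap 0 1 * swap 2 3, swap 0 2 * swap 1 3, swap 0 3 * swap 1 2],
        x⁻¹ ∈ ([1, swap 0 1 * swap 2 3, swap 0 2 * swap 1 3, swap 0 3 * swap 1 2] : List (Perm (Fin 4))) := by
      decide +kernel
    exact fun {x} hx => h x hx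

theorem klein4_prop : ∀ g ∈ klein4, g * g = 1 ∧ Perm.sign g = 1 := by
  have h : ∀ g ∈ ([1, swap 0 1 * swap 2 3, swap 0 2 * swap 1 3, swap 0 3 * swap 1 2] : List (Perm (Fin 4))),
      g * g = 1 ∧ Perm.sign g = 1 := by decide +kernel
  exact fun g hg => h g hg

theorem klein4_fours : IsFours (swap 0 1 * swap 2 3) (swap (0 : Fin 4) 2 * swap 1 3) univ where
  card := rfl
  supp_v := by decide +kernel
  supp_w := by decide +kernel
  sq_v := by decide +kernel
  sq_w := by decide +kernel
  comm := by decide +kernel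
  ne := by decide +kernel
  orbit := by
    have h : ∀ a b : Fin 4, b = a ∨ b = (swap 0 1 * swap 2 3 : Perm (Fin 4)) a ∨
        b = (swap (0 : Fin 4) 2 * swap 1 3 : Perm (Fin 4)) a ∨
        b = (swap 0 1 * swap 2 3 : Perm (Fin 4)) ((swap (0 : Fin 4) 2 * swap 1 3 : Perm (Fin 4)) a) := by
      decide +kernel
    exact fun a _ b _ => h a b

/-- Fewer than four points avoid the four-groups of `G`. -/
theorem Full.card_foursFree_lt (hG : Full π G) (h2 : 2 ∈ π) : (foursFree G).card < 4 := by
  by_contra hlt
  obtain ⟨S, hSD, hS⟩ := exists_subset_card_eq (not_lt.1 hlt)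
  let e : Fin 4 ≃ S := (Fintype.equivFinOfCardEq (by rw [Fintype.card_coe, hS])).symm
  let f : Perm (Fin 4) →* Perm α := (Perm.ofSubtype).comp e.permCongrHom.toMonoidHom
  have hfs : ∀ g, (f g).support ⊆ S := fun g a ha => by
    by_contra h
    exact Perm.mem_support.1 ha (Perm.ofSubtype_apply_of_not_mem (e.permCongrHom g) h)
  have hfa : ∀ g x, f g (e x) = e (g x) := fun g x => by
    show Perm.ofSubtype (e.permCongrHom g) ((e x : S) : α) = _
    rw [Perm.ofSubtype_apply_coe, Equiv.permCongrHom_coe, Equiv.permCongr_apply, Equiv.symm_apply_apply]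
  have hsupp : ∀ g : Perm (Fin 4), g.support = univ → (f g).support = S := fun g hg => by
    refine Subset.antisymm (hfs g) fun a ha => ?_
    obtain ⟨x, hx⟩ := e.surjective ⟨a, ha⟩
    rw [show a = (e x : α) by rw [hx], Perm.mem_support, hfa]
    exact fun h => Perm.mem_support.1 (hg ▸ mem_univ x : x ∈ g.support) (e.injective (Subtype.ext h))
  have hF : IsFours (f (swap 0 1 * swap 2 3)) (f (swap 0 2 * swap 1 3)) S :=
    { card := hS
      supp_v := hsupp _ klein4_fours.supp_v
      supp_w := hsupp _ klein4_fours.supp_w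
      sq_v := by rw [← map_mul, klein4_fours.sq_v, map_one]
      sq_w := by rw [← map_mul, klein4_fours.sq_w, map_one]
      comm := by rw [← map_mul, ← map_mul, klein4_fours.comm]
      ne := fun h => klein4_fours.ne (Equiv.ext fun x => e.injective (Subtype.ext (by rw [← hfa, ← hfa, h])))
      orbit := fun a ha b hb => by
        obtain ⟨x, hx⟩ := e.surjective ⟨a, ha⟩
        obtain ⟨y, hy⟩ := e.surjective ⟨b, hb⟩
        rw [show a = (e x : α) by rw [hx], show b = (e y : α) by rw [hy]]
        simp only [hfa]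
        rcases klein4_fours.orbit x (mem_univ _) y (mem_univ _) with h | h | h | h <;> subst h <;> simp }
  have hQ : IsPGroup 2 (klein4.map f) := by
    rintro ⟨_, g, hg, rfl⟩
    refine ⟨1, Subtype.ext ?_⟩
    show f g ^ 2 ^ 1 = 1
    rw [pow_one, sq, ← map_mul, (klein4_prop g hg).1, map_one]
  have hQA : klein4.map f ≤ alternatingGroup α := by
    rintro _ ⟨g, hg, rfl⟩
    rw [Perm.mem_alternatingGroup]
    show Perm.sign (Perm.ofSubtype (e.permCongrHom g)) = 1
    rw [Perm.sign_ofSubtype, Equiv.permCongrHom_coe, Perm.sign_permCongr, (klein4_prop g hg).2]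
  have hQD : ∀ g ∈ klein4.map f, g.support ⊆ foursFree G := by
    rintro _ ⟨g, -, rfl⟩
    exact (hfs g).trans hSD
  obtain ⟨y, hy⟩ := hG.conj_le_on Nat.prime_two h2 le_setStab_foursFree hQD hQA hQ
  have hv : f (swap 0 1 * swap 2 3) ∈ klein4.map f :=
    Subgroup.mem_map_of_mem _ (show _ ∈ ([_, _, _, _] : List (Perm (Fin 4))) by simp)
  have hw : f (swap 0 2 * swap 1 3) ∈ klein4.map f :=
    Subgroup.mem_map_of_mem _ (show _ ∈ ([_, _, _, _] : List (Perm (Fin 4))) by simp)
  have hF' := hF.conj y
  obtain ⟨a, ha⟩ := card_pos.1 (by rw [hF'.card]; norm_num : 0 < (S.map y.toEmbedding).card)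
  have hD := (hy _ hv).2
  rw [hF'.supp_v] at hD
  exact mem_foursFree.1 (hD ha) _ (hy _ hv).1 _ (hy _ hw).1 _ hF' ha

/-- A set of primes with 2, without 3, and with another prime up to the degree. -/
theorem Full.false_of_not_three (hG : Full π G) (h2 : 2 ∈ π) (h3 : 3 ∉ π) {r : ℕ} (hr : r.Prime) (hrπ : r ∈ π)
    (hr2 : r ≠ 2) (hrn : r ≤ Fintype.card α)
    (hmin : ∀ q : ℕ, q.Prime → q ∈ π → q ≠ 2 → q ≤ Fintype.card α → r ≤ q) : False := by
  have hr5 : 5 ≤ r := hr.five_le_of_ne_two_of_ne_three hr2 (fun h => h3 (h ▸ hrπ))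
  have hA := hG.card_cycleFree_lt hr hrπ hr2
  have hF := hG.card_foursFree_lt h2
  obtain ⟨x₀, hx₀, hx₀c, hx₀r⟩ : ∃ g ∈ G, g.IsCycle ∧ g.support.card = r := by
    by_contra hne
    push_neg at hne
    have : cycleFree G r = univ := eq_univ_of_forall fun a => mem_cycleFree.2 fun g hg hc hq => absurd hq (hne g hg hc)
    rw [this, card_univ] at hA
    omega
  have hA' : (cycleFree G r).card + r ≤ Fintype.card α := by
    have e := card_union_of_disjoint (s := cycleFree G r) (t := x₀.support) (disjoint_left.2 fun a ha ha' => mem_cycleFree.1 ha x₀ hx₀ hx₀c hx₀r ha')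
    have := card_le_univ (cycleFree G r ∪ x₀.support)
    omega
  obtain ⟨a, ha⟩ : ∃ a, a ∉ cycleFree G r ∪ foursFree G := by
    by_contra hne
    push_neg at hne
    have := card_union_le (cycleFree G r) (foursFree G)
    rw [eq_univ_of_forall hne, card_univ] at this
    omega
  rw [mem_union, mem_cycleFree, mem_foursFree] at ha
  push_neg at ha
  obtain ⟨⟨x, hx, hxc, hxr, hax⟩, ⟨v, hv, w, hw, S, hS, haS⟩⟩ := ha
  set U := x.support ∪ S with hU
  have hxU : x.support ⊆ U := subset_union_left
  have hvU : v.support ⊆ U := hS.supp_v ▸ subset_union_right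
  have hwU : w.support ⊆ U := hS.supp_w ▸ subset_union_right
  have hUle : U.card ≤ r + 3 := by
    have h := card_union_add_card_inter x.support S
    have : 0 < (x.support ∩ S).card := card_pos.2 ⟨a, mem_inter.2 ⟨hax, haS⟩⟩
    rw [hxr, hS.card] at h
    rw [hU]
    omega
  have hUge : r ≤ U.card := hxr ▸ card_le_card hxU
  set K := onSet G U with hK
  have hKpi : ∀ q : ℕ, q.Prime → q ∣ Nat.card K → q ∈ π := fun q hq h => hG.pi q hq (h.trans (card_onSet_dvd G U))
  have hKn : ∀ q : ℕ, q.Prime → q ∣ Nat.card K → q ≤ U.card := fun q hq h => by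
    have h' := h.trans (Subgroup.card_subgroup_dvd_card K)
    rw [Nat.card_perm, Nat.card_eq_fintype_card, Fintype.card_coe] at h'
    exact hq.dvd_factorial.1 h'
  set X := restrictTo x hxU
  set V := restrictTo v hvU
  set W := restrictTo w hwU
  have hXK : X ∈ K := restrictTo_mem hx hxU
  have hVK : V ∈ K := restrictTo_mem hv hvU
  have hWK : W ∈ K := restrictTo_mem hw hwU
  have hXc : X.IsCycle := isCycle_restrictTo hxU hxc
  have hXp : X.support.card.Prime := by rwa [card_support_restrictTo, hxr]
  have hsq : ∀ (g : Perm α) (h : g.support ⊆ U), g * g = 1 → restrictTo g h * restrictTo g h = 1 := fun g h hg => by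
    apply Perm.ofSubtype_injective
    rw [map_mul, ofSubtype_restrictTo, hg, map_one]
  have hreach : ∀ b : {a // a ∈ U}, ∃ g ∈ K, g ⟨a, hxU hax⟩ = b := by
    intro b
    rcases mem_union.1 b.2 with hb | hb
    · exact reach_of_cycle hXK hXc ((mem_support_restrictTo hxU).2 hax) ((mem_support_restrictTo hxU).2 hb)
    · rcases hS.orbit a haS b hb with e | e | e | e
      · exact ⟨1, one_mem _, Subtype.ext e.symm⟩
      · exact ⟨V, hVK, Subtype.ext e.symm⟩
      · exact ⟨W, hWK, Subtype.ext e.symm⟩
      · exact ⟨V * W, mul_mem hVK hWK, Subtype.ext e.symm⟩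
  haveI : IsPretransitive K {a // a ∈ U} := isPretransitive_of_reach _ hreach
  have hprim : IsPreprimitive K {a // a ∈ U} := by
    refine ⟨fun {B} hB => B.subsingleton_or_nontrivial.imp id fun hnt => ?_⟩
    obtain ⟨c, hc⟩ := hnt.nonempty
    obtain ⟨g, hg⟩ := exists_smul_eq K c ⟨a, hxU hax⟩
    have hB' : IsBlock K (g • B) := hB.translate g
    have haB : (⟨a, hxU hax⟩ : {a // a ∈ U}) ∈ g • B := hg ▸ Set.smul_mem_smul_set hc
    have hnt' : (g • B).Nontrivial := by
      rw [← Set.image_smul]
      exact hnt.image (MulAction.injective g)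
    have hsub : (X.support : Set {a // a ∈ U}) ⊆ g • B := fun d hd =>
      block_invariant hB' hnt' hXK hXc hXp haB ((mem_support_restrictTo hxU).2 hax) d hd
    have hd := hB.ncard_dvd_card hnt.nonempty
    have hge := Set.ncard_le_ncard hsub
    rw [Set.ncard_coe_finset, Set.ncard_smul_set, card_support_restrictTo, hxr] at hge
    rw [Nat.card_eq_fintype_card, Fintype.card_coe] at hd
    obtain ⟨t, ht⟩ := hd
    have ht1 : t = 1 := by
      rcases t with - | - | t
      · omega
      · rfl
      · nlinarith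
    exact Set.eq_of_subset_of_ncard_le (Set.subset_univ _) (by
      rw [Set.ncard_univ, Nat.card_eq_fintype_card, Fintype.card_coe, ht, ht1, mul_one])
  have hpr : ∀ q : ℕ, q.Prime → q ∣ Nat.card K → q = 2 ∨ q = r := by
    intro q hq h
    by_contra hne
    rw [not_or] at hne
    have hqn := hKn q hq h
    have hge := hmin q hq (hKpi q hq h) hne.1 (hqn.trans (card_le_univ _))
    have hodd := (hq.odd_of_ne_two hne.1).add_odd (hr.odd_of_ne_two hr2)
    rw [Nat.even_iff] at hodd
    have hq2 : q = r + 2 := by omega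
    -- both cycle lengths are at most the degree, and 3 divides one of the degrees in between
    have hU2 : r + 2 ≤ U.card := hq2 ▸ hqn
    obtain ⟨n, hn⟩ : ∃ n, U.card = r + (n + 1) := ⟨U.card - r - 1, by omega⟩
    have hm := multiply_of_cycle hprim hXK hXc hXp (n := n)
      (by rw [card_support_restrictTo, hxr, Fintype.card_coe, hn])
    have hm3 : IsMultiplyPretransitive K {a // a ∈ U} 3 := isMultiplyPretransitive_of_le (n := n + 2) (by omega) (by
      rw [Nat.card_eq_fintype_card, Fintype.card_coe, hn]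
      omega)
    have hd := (Nat.factorial_dvd_descFactorial _ 3).trans (descFactorial_dvd_card hm3 (by rw [Fintype.card_coe]; omega))
    exact h3 (hKpi 3 Nat.prime_three (dvd_trans (by norm_num [Nat.factorial]) hd))
  rcases (show U.card = r ∨ r + 1 ≤ U.card by omega) with hcU | hcU
  · refine no_fours_of_prime_degree (K := K) hr hr2 (by rw [Fintype.card_coe, hcU]) hpr hVK hWK
      (hsq v hvU hS.sq_v) (hsq w hwU hS.sq_w) ?_ ?_ ?_ ?_
    · intro h
      have e := congrArg Perm.ofSubtype h
      rw [ofSubtype_restrictTo, map_one] at e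
      have h0 := hS.card
      rw [← hS.supp_v, e, Perm.support_one, card_empty] at h0
      omega
    · intro h
      have e := congrArg Perm.ofSubtype h
      rw [ofSubtype_restrictTo, map_one] at e
      have h0 := hS.card
      rw [← hS.supp_w, e, Perm.support_one, card_empty] at h0
      omega
    · intro h
      exact hS.ne (by simpa [V, W, ofSubtype_restrictTo] using congrArg Perm.ofSubtype h)
    · exact Perm.ofSubtype_injective (by rw [map_mul, map_mul, ofSubtype_restrictTo, ofSubtype_restrictTo, hS.comm])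
  obtain ⟨n, hn⟩ : ∃ n, U.card = r + (n + 1) := ⟨U.card - r - 1, by omega⟩
  have hm := multiply_of_cycle hprim hXK hXc hXp (n := n)
    (by rw [card_support_restrictTo, hxr, Fintype.card_coe, hn])
  rcases n with - | n
  · -- degree r + 1: the stabiliser of a point outside the four-group
    obtain ⟨b, hb⟩ : (U \ S).Nonempty := card_pos.1 (by
      have := le_card_sdiff S U
      rw [hS.card] at this
      omega)
    rw [mem_sdiff] at hb
    set U' := U.erase b with hU'
    have hvU' : v.support ⊆ U' := fun c hc => mem_erase.2 ⟨fun h => hb.2 (hS.supp_v ▸ h ▸ hc), hvU hc⟩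
    have hwU' : w.support ⊆ U' := fun c hc => mem_erase.2 ⟨fun h => hb.2 (hS.supp_w ▸ h ▸ hc), hwU hc⟩
    have hcard' : U'.card = r := by rw [hU', card_erase_of_mem hb.1, hn]; rfl
    haveI : IsPretransitive (onSet G U') {a // a ∈ U'} := by
      refine ⟨fun c d => ?_⟩
      have hcb : (⟨b, hb.1⟩ : {a // a ∈ U}) ≠ ⟨c.1, (mem_erase.1 c.2).2⟩ := fun h =>
        (mem_erase.1 c.2).1 (congrArg Subtype.val h).symm
      have hdb : (⟨b, hb.1⟩ : {a // a ∈ U}) ≠ ⟨d.1, (mem_erase.1 d.2).2⟩ := fun h =>
        (mem_erase.1 d.2).1 (congrArg Subtype.val h).symm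
      obtain ⟨g, hg1, hg2⟩ := (is_two_pretransitive_iff).1 hm hcb hdb
      have hg1' : Perm.ofSubtype g.1 b = b := by
        rw [Perm.ofSubtype_apply_of_mem _ hb.1]
        exact congrArg Subtype.val hg1
      have hsub : (Perm.ofSubtype g.1).support ⊆ U' := fun e he => by
        refine mem_erase.2 ⟨fun h => Perm.mem_support.1 he (h ▸ hg1'), ?_⟩
        by_contra heU
        exact Perm.mem_support.1 he (Perm.ofSubtype_apply_of_not_mem _ heU)
      refine ⟨⟨restrictTo _ hsub, restrictTo_mem (G := G) (show Perm.ofSubtype g.1 ∈ G from g.2) hsub⟩, Subtype.ext ?_⟩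
      show Perm.ofSubtype g.1 c.1 = d.1
      rw [Perm.ofSubtype_apply_of_mem _ (mem_erase.1 c.2).2]
      exact congrArg Subtype.val hg2
    have hpr' : ∀ q : ℕ, q.Prime → q ∣ Nat.card (onSet G U') → q = 2 ∨ q = r := by
      intro q hq h
      have h' := h.trans (Subgroup.card_subgroup_dvd_card _)
      rw [Nat.card_perm, Nat.card_eq_fintype_card, Fintype.card_coe, hcard'] at h'
      have hqr := hq.dvd_factorial.1 h'
      by_contra hne
      rw [not_or] at hne
      have := hmin q hq (hG.pi q hq (h.trans (card_onSet_dvd G U'))) hne.1 (by omega)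
      omega
    refine no_fours_of_prime_degree (K := onSet G U') hr hr2 (by rw [Fintype.card_coe, hcard']) hpr'
      (restrictTo_mem hv hvU') (restrictTo_mem hw hwU') ?_ ?_ ?_ ?_ ?_ ?_
    · exact Perm.ofSubtype_injective (by rw [map_mul, ofSubtype_restrictTo, hS.sq_v, map_one])
    · exact Perm.ofSubtype_injective (by rw [map_mul, ofSubtype_restrictTo, hS.sq_w, map_one])
    · intro h
      have e := congrArg Perm.ofSubtype h
      rw [ofSubtype_restrictTo, map_one] at e
      have h0 := hS.card
      rw [← hS.supp_v, e, Perm.support_one, card_empty] at h0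
      omega
    · intro h
      have e := congrArg Perm.ofSubtype h
      rw [ofSubtype_restrictTo, map_one] at e
      have h0 := hS.card
      rw [← hS.supp_w, e, Perm.support_one, card_empty] at h0
      omega
    · intro h
      exact hS.ne (by simpa [ofSubtype_restrictTo] using congrArg Perm.ofSubtype h)
    · exact Perm.ofSubtype_injective (by rw [map_mul, map_mul, ofSubtype_restrictTo, ofSubtype_restrictTo, hS.comm])
  have hm3 : IsMultiplyPretransitive K {a // a ∈ U} 3 := isMultiplyPretransitive_of_le (n := n + 1 + 2) (by omega) (by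
    rw [Nat.card_eq_fintype_card, Fintype.card_coe, hn]
    omega)
  have hd := (Nat.factorial_dvd_descFactorial _ 3).trans (descFactorial_dvd_card hm3 (by rw [Fintype.card_coe]; omega))
  exact h3 (hKpi 3 Nat.prime_three (dvd_trans (by norm_num [Nat.factorial]) hd))

end Cfsg.Agent.Lib.HallSym
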