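import Cfsg.Agent.Lib.HallSym.Main
import Cfsg.Agent.Lib.HallSym.Impossible
import Cfsg.Agent.Lib.Hall.Basic
import Cfsg.Prelude.Def_HallClasses

/-!
Hall subgroups of symmetric and alternating groups for at least two but not all primes up to the degree.
-/

set_option autoImplicit false

namespace Cfsg.Agent.Lib.HallSym

open Equiv Finset Cfsg

variable {α : Type*} [Fintype α] [DecidableEq α] {π : Set ℕ}

/-- The two hypotheses on the set of primes. -/
structure Proper (π : Set ℕ) (n : ℕ) : Prop where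
  two : ∃ r s : ℕ, r.Prime ∧ s.Prime ∧ r ≠ s ∧ r ∈ π ∧ s ∈ π ∧ r ≤ n ∧ s ≤ n
  notall : ∃ r : ℕ, r.Prime ∧ r ≤ n ∧ r ∉ π

theorem full_of_isPiHall {M : Subgroup (alternatingGroup α)} (hM : IsPiHall π M) :
    Full π (M.map (alternatingGroup α).subtype) := by
  have hc : Nat.card (M.map (alternatingGroup α).subtype) = Nat.card M :=
    Subgroup.card_map_of_injective (alternatingGroup α).subtype_injective
  refine ⟨Subgroup.map_subtype_le M, fun q hq h => hM.1 q hq (hc ▸ h), fun q k hq hqπ h => ?_⟩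
  rw [hc]
  rw [← M.card_mul_index] at h
  exact (((hq.coprime_iff_not_dvd).2 (hM.2 q hq hqπ)).pow_left k).dvd_of_dvd_mul_right h

theorem Proper.structure_of_full (hπ : Proper π (Fintype.card α)) {G : Subgroup (Perm α)} (hG : Full π G) :
    ∃ p : ℕ, p.Prime ∧ 5 ≤ p ∧ p ≤ Fintype.card α ∧
      (∀ q : ℕ, q.Prime → q ≤ Fintype.card α → (q ∈ π ↔ q < p)) ∧
      Shape p (Fintype.card α) (blockSizes (classSetoid G)) ∧
      IsPiHall π (blockStab (classSetoid G)) ∧
      G = blockStab (classSetoid G) ⊓ alternatingGroup α := by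
  classical
  obtain ⟨r, s, hr, hs, hrs, hrπ, hsπ, hrn, hsn⟩ := hπ.two
  have h2 : 2 ∈ π := by
    by_contra h2
    rcases lt_or_gt_of_ne hrs with h | h
    · exact hG.false_of_two_odd h2 hr hs hrπ hsπ h hsn
    · exact hG.false_of_two_odd h2 hs hr hsπ hrπ h hrn
  have h3 : 3 ∈ π := by
    by_contra h3
    have hex : ∃ t, t.Prime ∧ t ∈ π ∧ t ≠ 2 ∧ t ≤ Fintype.card α := by
      by_cases hr2 : r = 2
      · exact ⟨s, hs, hsπ, fun h => hrs (hr2.trans h.symm), hsn⟩
      · exact ⟨r, hr, hrπ, hr2, hrn⟩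
    obtain ⟨h1, h1', h1'', h1'''⟩ := Nat.find_spec hex
    exact hG.false_of_not_three h2 h3 h1 h1' h1'' h1'''
      fun q hq hqπ hq2 hqn => Nat.find_min' hex ⟨hq, hqπ, hq2, hqn⟩
  obtain ⟨hp, hpn, hpπ⟩ := Nat.find_spec hπ.notall
  have hp5 : 5 ≤ Nat.find hπ.notall :=
    hp.five_le_of_ne_two_of_ne_three (fun h => hpπ (h.symm ▸ h2)) (fun h => hpπ (h.symm ▸ h3))
  refine ⟨_, hp, hp5, hpn, hG.structure_of_small_primes hp hp5 hpn (fun q hq hqp => ?_) hpπ⟩
  by_contra hqπ
  exact Nat.find_min hπ.notall hqp ⟨hq, by omega, hqπ⟩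

theorem Proper.unique_cut {a b : ℕ} (hπ : ∀ p : ℕ, p.Prime → p ≤ Fintype.card α → (p ∈ π ↔ p < a))
    (hπ' : ∀ p : ℕ, p.Prime → p ≤ Fintype.card α → (p ∈ π ↔ p < b)) (ha : a.Prime) (hb : b.Prime)
    (han : a ≤ Fintype.card α) (hbn : b ≤ Fintype.card α) : a = b := by
  have h1 := hπ a ha han
  have h2 := hπ' a ha han
  have h3 := hπ b hb hbn
  have h4 := hπ' b hb hbn
  rw [h2] at h1
  rw [h4] at h3
  omega

/-- Any Hall subgroup of the symmetric group is determined by its even part. -/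
theorem Proper.eq_blockStab (hπ : Proper π (Fintype.card α)) {M : Subgroup (Perm α)} (hM : IsPiHall π M) :
    M = blockStab (classSetoid (M ⊓ alternatingGroup α)) ∧ Full π (M ⊓ alternatingGroup α) := by
  have hH := Cfsg.Agent.Lib.Hall.isPiHall_subgroupOf_normal (H := M) hM (alternatingGroup α)
  have hG := full_of_isPiHall hH
  rw [Subgroup.subgroupOf_map_subtype] at hG
  obtain ⟨p, -, -, -, -, -, hHall, -⟩ := hπ.structure_of_full hG
  have hle : M ≤ blockStab (classSetoid (M ⊓ alternatingGroup α)) := mem_blockStab_of_normalizes fun h hh g hg =>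
    ⟨show h * g * h⁻¹ ∈ M from mul_mem (mul_mem hh hg.1) (inv_mem hh),
      (inferInstance : (alternatingGroup α).Normal).conj_mem g hg.2 h⟩
  exact ⟨Cfsg.Agent.Lib.Hall.isPiHall_eq_of_le hM hHall.1 hle, hG⟩

/-- Hall subgroups of the symmetric group are conjugate. -/
theorem Proper.conj_perm (hπ : Proper π (Fintype.card α)) {M M' : Subgroup (Perm α)} (hM : IsPiHall π M)
    (hM' : IsPiHall π M') : ∃ g : Perm α, M' = M.map (MulAut.conj g).toMonoidHom := by
  obtain ⟨e, hG⟩ := hπ.eq_blockStab hM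
  obtain ⟨e', hG'⟩ := hπ.eq_blockStab hM'
  obtain ⟨p, hp, -, hpn, hcut, hshape, -, -⟩ := hπ.structure_of_full hG
  obtain ⟨p', hp', -, hpn', hcut', hshape', -, -⟩ := hπ.structure_of_full hG'
  obtain rfl := Proper.unique_cut hcut hcut' hp hp' hpn hpn'
  obtain ⟨σ, hσ⟩ := exists_blockStab_conj (hshape.unique hshape')
  rw [← e, ← e'] at hσ
  exact ⟨σ, hσ⟩

theorem Proper.exists_of_alt (hπ : Proper π (Fintype.card α)) {M : Subgroup (alternatingGroup α)}
    (hM : IsPiHall π M) :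
    ∃ M₀ : Subgroup (Perm α), IsPiHall π M₀ ∧ M = M₀.subgroupOf (alternatingGroup α) := by
  obtain ⟨p, -, -, -, -, -, hHall, heq⟩ := hπ.structure_of_full (full_of_isPiHall hM)
  refine ⟨_, hHall, ?_⟩
  rw [← Subgroup.inf_subgroupOf_right, ← heq, Subgroup.subgroupOf, Subgroup.comap_map_eq_self_of_injective
    (alternatingGroup α).subtype_injective]

/-- The shapes of the degree and the prime set. -/
theorem Proper.shape_of_perm (hπ : Proper π (Fintype.card α)) {M : Subgroup (Perm α)} (hM : IsPiHall π M) :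
    ((Fintype.card α).Prime ∧ ∀ r : ℕ, r.Prime → r ≤ Fintype.card α → (r ∈ π ↔ r < Fintype.card α)) ∨
      ((Fintype.card α = 7 ∨ Fintype.card α = 8) ∧
        ∀ r : ℕ, r.Prime → r ≤ Fintype.card α → (r ∈ π ↔ (r = 2 ∨ r = 3))) := by
  obtain ⟨-, hG⟩ := hπ.eq_blockStab hM
  obtain ⟨p, hp, -, -, hcut, hshape, -, -⟩ := hπ.structure_of_full hG
  rcases hshape with ⟨h1, -⟩ | ⟨rfl, h1, -⟩ | ⟨rfl, h1, -⟩
  · exact Or.inl ⟨h1 ▸ hp, fun r hr hrn => by rw [hcut r hr hrn, h1]⟩
  all_goals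
    refine Or.inr ⟨by omega, fun r hr hrn => ?_⟩
    rw [hcut r hr hrn]
    constructor
    · intro h
      interval_cases r <;> first | omega | exact absurd hr (by norm_num)
    · rintro (rfl | rfl) <;> norm_num

end Cfsg.Agent.Lib.HallSym
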