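import Cfsg.Agent.Lib.HallSym.Numbers
import Mathlib

/-!
The stabiliser of a set partition in a symmetric group: a bound for its order, and conjugacy of the stabilisers of
partitions with the same block sizes.
-/

set_option autoImplicit false

namespace Cfsg.Agent.Lib.HallSym

open Equiv Finset

variable {α : Type*} [Fintype α] [DecidableEq α]

/-- The permutations respecting the equivalence `R`. -/
def blockStab (R : Setoid α) : Subgroup (Perm α) where
  carrier := {g | ∀ a b, R.r (g a) (g b) ↔ R.r a b}
  one_mem' := fun _ _ => Iff.rfl
  mul_mem' := fun {g h} hg hh a b => by rw [Perm.mul_apply, Perm.mul_apply, hg, hh]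
  inv_mem' := fun {g} hg a b => by rw [← hg]; simp

theorem mem_blockStab {R : Setoid α} {g : Perm α} : g ∈ blockStab R ↔ ∀ a b, R.r (g a) (g b) ↔ R.r a b :=
  Iff.rfl

/-- A group that maps related points to related points lies in the stabiliser. -/
theorem le_blockStab {R : Setoid α} {G : Subgroup (Perm α)} (h : ∀ g ∈ G, ∀ a b, R.r a b → R.r (g a) (g b)) :
    G ≤ blockStab R := fun g hg a b =>
  ⟨fun hab => by simpa using h g⁻¹ (inv_mem hg) _ _ hab, h g hg a b⟩

theorem swap_mem_blockStab {R : Setoid α} {a b : α} (h : R.r a b) : swap a b ∈ blockStab R := by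
  have key : ∀ x, R.r (swap a b x) x := fun x => by
    rcases eq_or_ne x a with rfl | hxa
    · rw [swap_apply_left]
      exact R.iseqv.symm h
    rcases eq_or_ne x b with rfl | hxb
    · rw [swap_apply_right]
      exact h
    rw [swap_apply_of_ne_of_ne hxa hxb]
  exact fun x y => ⟨fun hxy => R.iseqv.trans (R.iseqv.symm (key x)) (R.iseqv.trans hxy (key y)),
    fun hxy => R.iseqv.trans (key x) (R.iseqv.trans hxy (R.iseqv.symm (key y)))⟩

/-- The size of a block. -/
noncomputable def blockSize (R : Setoid α) (q : Quotient R) : ℕ := by
  classical exact Fintype.card {a : α // Quotient.mk R a = q}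

noncomputable instance quotFintype (R : Setoid α) : Fintype (Quotient R) :=
  Fintype.ofFinite _

/-- The sizes of all blocks. -/
noncomputable def blockSizes (R : Setoid α) : Multiset ℕ :=
  (Finset.univ : Finset (Quotient R)).val.map (blockSize R)

theorem blockSize_eq (R : Setoid α) (q : Quotient R) : blockSize R q = Nat.card {a : α // Quotient.mk R a = q} := by
  classical
  rw [blockSize, Nat.card_eq_fintype_card]

theorem blockSize_mk (R : Setoid α) (a : α) : blockSize R (Quotient.mk R a) = Nat.card {b : α // R.r a b} := by
  rw [blockSize_eq]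
  exact Nat.card_congr (Equiv.subtypeEquivRight fun b =>
    ⟨fun h => R.iseqv.symm (Quotient.exact h), fun h => Quotient.sound (R.iseqv.symm h)⟩)

theorem blockSize_pos (R : Setoid α) (q : Quotient R) : 1 ≤ blockSize R q := by
  obtain ⟨a, rfl⟩ := Quotient.exists_rep q
  rw [blockSize_eq]
  exact Nat.card_pos_iff.2 ⟨⟨⟨a, rfl⟩⟩, inferInstance⟩

theorem sum_blockSizes (R : Setoid α) : (blockSizes R).sum = Fintype.card α := by
  classical
  rw [blockSizes, ← Finset.sum_eq_multiset_sum, ← Fintype.card_congr (Equiv.sigmaFiberEquiv (Quotient.mk R)),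
    Fintype.card_sigma]
  exact Finset.sum_congr rfl fun q _ => by rw [blockSize]

theorem count_blockSizes (R : Setoid α) (m : ℕ) :
    (blockSizes R).count m = Nat.card {q : Quotient R // blockSize R q = m} := by
  classical
  rw [blockSizes, Multiset.count_map, Nat.card_eq_fintype_card, Fintype.card_subtype]
  simp only [eq_comm (a := m)]
  rfl

/-- The action on the blocks. -/
noncomputable def blockHom (R : Setoid α) : blockStab R →* Perm (Quotient R) where
  toFun g :=
    { toFun := Quotient.map g.1 fun a b h => (g.2 a b).2 h
      invFun := Quotient.map (g⁻¹).1 fun a b h => ((g⁻¹).2 a b).2 h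
      left_inv := fun q => Quotient.inductionOn q fun a => by simp
      right_inv := fun q => Quotient.inductionOn q fun a => by simp }
  map_one' := Equiv.ext fun q => Quotient.inductionOn q fun a => rfl
  map_mul' g h := Equiv.ext fun q => Quotient.inductionOn q fun a => rfl

/-- The permutations of blocks keeping the sizes. -/
noncomputable def sizePerms (R : Setoid α) : Subgroup (Perm (Quotient R)) where
  carrier := {σ | blockSize R ∘ σ = blockSize R}
  one_mem' := rfl
  mul_mem' := fun {σ τ} hs ht => by
    have hs' : blockSize R ∘ σ = blockSize R := hs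
    have ht' : blockSize R ∘ τ = blockSize R := ht
    show blockSize R ∘ ⇑(σ * τ) = _
    rw [Perm.coe_mul, ← Function.comp_assoc, hs', ht']
  inv_mem' := fun {σ} hs => funext fun q => by
    have := congrFun (hs : blockSize R ∘ σ = blockSize R) (σ⁻¹ q)
    simpa using this.symm

theorem card_blockStab_dvd (R : Setoid α) : Nat.card (blockStab R) ∣ stabOrder (blockSizes R) := by
  classical
  set Φ := blockHom R with hΦ
  have hrange : Φ.range ≤ sizePerms R := by
    rintro _ ⟨g, rfl⟩
    refine funext fun q => Quotient.inductionOn q fun a => ?_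
    show blockSize R (Quotient.mk R (g.1 a)) = _
    rw [blockSize_mk, blockSize_mk]
    refine (Nat.card_congr ((g.1).subtypeEquiv fun b => ?_)).symm
    exact (g.2 a b).symm
  have hker : Nat.card Φ.ker = ((blockSizes R).map Nat.factorial).prod := by
    rw [blockSizes, Multiset.map_map, ← Finset.prod_eq_multiset_prod]
    have e : Φ.ker ≃ {g : Perm α // Quotient.mk R ∘ g = Quotient.mk R} :=
      { toFun := fun g => ⟨g.1.1, funext fun a => by
          have h := congrArg (fun σ : Perm (Quotient R) => σ (Quotient.mk R a)) (MonoidHom.mem_ker.1 g.2)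
          simpa [hΦ, blockHom] using h⟩
        invFun := fun g => ⟨⟨g.1, fun a b => by
            have ha := Quotient.exact (congrFun g.2 a)
            have hb := Quotient.exact (congrFun g.2 b)
            exact ⟨fun h => R.iseqv.trans (R.iseqv.symm ha) (R.iseqv.trans h hb),
              fun h => R.iseqv.trans ha (R.iseqv.trans h (R.iseqv.symm hb))⟩⟩,
          MonoidHom.mem_ker.2 (Equiv.ext fun q => Quotient.inductionOn q fun a => by
            simpa [hΦ, blockHom] using congrFun g.2 a)⟩
        left_inv := fun g => rfl
        right_inv := fun g => rfl }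
    rw [Nat.card_congr e, Nat.card_eq_fintype_card, DomMulAct.stabilizer_card]
    refine Finset.prod_congr rfl fun q _ => ?_
    rw [Function.comp_apply, blockSize]
  have hsize : Nat.card (sizePerms R) = ∏ m ∈ (blockSizes R).toFinset, ((blockSizes R).count m).factorial := by
    show Nat.card {σ : Perm (Quotient R) // blockSize R ∘ σ = blockSize R} = _
    rw [Nat.card_eq_fintype_card, DomMulAct.stabilizer_card']
    refine Finset.prod_congr (by ext m; simp [blockSizes]) fun m _ => ?_
    rw [count_blockSizes, Nat.card_eq_fintype_card]
  have h : Nat.card (blockStab R) = Nat.card Φ.ker * Nat.card Φ.range := by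
    rw [← Subgroup.index_ker, Subgroup.card_mul_index]
  rw [h, stabOrder, hker]
  exact mul_dvd_mul_left _ (hsize ▸ Subgroup.card_dvd_of_le hrange)

/-- Partitions with the same block sizes have conjugate stabilisers. -/
theorem exists_blockStab_conj {R R' : Setoid α} (h : blockSizes R = blockSizes R') :
    ∃ σ : Perm α, blockStab R' = (blockStab R).map (MulAut.conj σ).toMonoidHom := by
  classical
  have hc : ∀ m, Fintype.card {q : Quotient R // blockSize R q = m} =
      Fintype.card {q : Quotient R' // blockSize R' q = m} := fun m => by
    rw [← Nat.card_eq_fintype_card, ← Nat.card_eq_fintype_card, ← count_blockSizes, ← count_blockSizes, h]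
  let e : Quotient R ≃ Quotient R' := Equiv.ofFiberEquiv fun m => Fintype.equivOfCardEq (hc m)
  have he : ∀ q, blockSize R' (e q) = blockSize R q := fun q => Equiv.ofFiberEquiv_map _ q
  have hc2 : ∀ q, Fintype.card {a : α // e (Quotient.mk R a) = q} = Fintype.card {a : α // Quotient.mk R' a = q} := by
    intro q
    have h1 := he (e.symm q)
    rw [Equiv.apply_symm_apply, blockSize, blockSize] at h1
    rw [h1]
    exact Fintype.card_congr (Equiv.subtypeEquivRight fun a => by rw [← Equiv.eq_symm_apply])
  let σ : Perm α := Equiv.ofFiberEquiv (f := fun a => e (Quotient.mk R a)) (g := Quotient.mk R')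
    fun q => Fintype.equivOfCardEq (hc2 q)
  have hσ : ∀ a, Quotient.mk R' (σ a) = e (Quotient.mk R a) := fun a => Equiv.ofFiberEquiv_map _ a
  have hrel : ∀ a b, R'.r (σ a) (σ b) ↔ R.r a b := fun a b => by
    constructor
    · intro hab
      have := hσ a ▸ hσ b ▸ Quotient.sound (s := R') hab
      exact Quotient.exact (e.injective this)
    · intro hab
      exact Quotient.exact ((hσ a).trans ((congrArg e (Quotient.sound (s := R) hab)).trans (hσ b).symm))
  have hrel' : ∀ a b, R.r (σ.symm a) (σ.symm b) ↔ R'.r a b := fun a b => by rw [← hrel]; simp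
  refine ⟨σ, Subgroup.ext fun g => ?_⟩
  rw [Subgroup.mem_map_equiv, MulAut.conj_symm_apply, mem_blockStab, mem_blockStab]
  constructor
  · intro hg a b
    simp only [Perm.mul_apply, Perm.inv_def]
    rw [hrel', hg, hrel]
  · intro hg a b
    have := hg (σ.symm a) (σ.symm b)
    simp only [Perm.mul_apply, Perm.inv_def, Equiv.apply_symm_apply] at this
    rw [hrel', hrel'] at this
    exact this

theorem card_blockStab (R : Setoid α) : Nat.card (blockStab R) = stabOrder (blockSizes R) := by
  classical
  refine Nat.dvd_antisymm (card_blockStab_dvd R) ?_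
  -- every permutation of the blocks keeping the sizes is induced
  set Φ := blockHom R with hΦ
  have hrange : sizePerms R ≤ Φ.range := by
    intro σ hσ
    have hσ' : ∀ q, blockSize R (σ q) = blockSize R q := fun q => congrFun hσ q
    have hc : ∀ q, Fintype.card {a : α // σ (Quotient.mk R a) = q} = Fintype.card {a : α // Quotient.mk R a = q} := by
      intro q
      have h1 := hσ' (σ.symm q)
      rw [Equiv.apply_symm_apply, blockSize, blockSize] at h1
      rw [h1]
      exact Fintype.card_congr (Equiv.subtypeEquivRight fun a => by rw [← Equiv.eq_symm_apply])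
    let τ : Perm α := Equiv.ofFiberEquiv (f := fun a => σ (Quotient.mk R a)) (g := Quotient.mk R)
      fun q => Fintype.equivOfCardEq (hc q)
    have hτ : ∀ a, Quotient.mk R (τ a) = σ (Quotient.mk R a) := fun a => Equiv.ofFiberEquiv_map _ a
    have hτR : τ ∈ blockStab R := fun a b => by
      constructor
      · intro h
        exact Quotient.exact (σ.injective ((hτ a).symm.trans ((Quotient.sound h).trans (hτ b))))
      · intro h
        exact Quotient.exact ((hτ a).trans ((congrArg σ (Quotient.sound (s := R) h)).trans (hτ b).symm))
    exact ⟨⟨τ, hτR⟩, Equiv.ext fun q => Quotient.inductionOn q fun a => hτ a⟩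
  have hker : Nat.card Φ.ker = ((blockSizes R).map Nat.factorial).prod := by
    rw [blockSizes, Multiset.map_map, ← Finset.prod_eq_multiset_prod]
    have e : Φ.ker ≃ {g : Perm α // Quotient.mk R ∘ g = Quotient.mk R} :=
      { toFun := fun g => ⟨g.1.1, funext fun a => by
          have h := congrArg (fun σ : Perm (Quotient R) => σ (Quotient.mk R a)) (MonoidHom.mem_ker.1 g.2)
          simpa [hΦ, blockHom] using h⟩
        invFun := fun g => ⟨⟨g.1, fun a b => by
            have ha := Quotient.exact (congrFun g.2 a)
            have hb := Quotient.exact (congrFun g.2 b)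
            exact ⟨fun h => R.iseqv.trans (R.iseqv.symm ha) (R.iseqv.trans h hb),
              fun h => R.iseqv.trans ha (R.iseqv.trans h (R.iseqv.symm hb))⟩⟩,
          MonoidHom.mem_ker.2 (Equiv.ext fun q => Quotient.inductionOn q fun a => by
            simpa [hΦ, blockHom] using congrFun g.2 a)⟩
        left_inv := fun g => rfl
        right_inv := fun g => rfl }
    rw [Nat.card_congr e, Nat.card_eq_fintype_card, DomMulAct.stabilizer_card]
    refine Finset.prod_congr rfl fun q _ => ?_
    rw [Function.comp_apply, blockSize]
  have hsize : Nat.card (sizePerms R) = ∏ m ∈ (blockSizes R).toFinset, ((blockSizes R).count m).factorial := by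
    show Nat.card {σ : Perm (Quotient R) // blockSize R ∘ σ = blockSize R} = _
    rw [Nat.card_eq_fintype_card, DomMulAct.stabilizer_card']
    refine Finset.prod_congr (by ext m; simp [blockSizes]) fun m _ => ?_
    rw [count_blockSizes, Nat.card_eq_fintype_card]
  have h : Nat.card (blockStab R) = Nat.card Φ.ker * Nat.card Φ.range := by
    rw [← Subgroup.index_ker, Subgroup.card_mul_index]
  rw [h, stabOrder, hker]
  exact mul_dvd_mul_left _ (hsize ▸ Subgroup.card_dvd_of_le hrange)

/-- The block sizes of the fibres of a surjective map. -/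
theorem blockSizes_ker {ι : Type*} [Fintype ι] [DecidableEq ι] (f : α → ι) (hf : Function.Surjective f) :
    blockSizes (Setoid.ker f) = (Finset.univ : Finset ι).val.map fun i => Fintype.card {a // f a = i} := by
  classical
  rw [blockSizes, ← Finset.map_univ_equiv (Setoid.quotientKerEquivOfSurjective f hf), Finset.map_val,
    Multiset.map_map]
  refine Multiset.map_congr rfl fun q _ => ?_
  obtain ⟨a, rfl⟩ := Quotient.exists_rep q
  rw [Function.comp_apply, blockSize_eq, ← Nat.card_eq_fintype_card]
  exact Nat.card_congr (Equiv.subtypeEquivRight fun b =>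
    ⟨fun h => Quotient.exact h, fun h => Quotient.sound h⟩)

end Cfsg.Agent.Lib.HallSym
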