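import Cfsg.Agent.Lib.HallSym.DPi

/-!
The Sylow analogue fails for `{2, 3}` in the alternating groups of degrees 7 and 8.
-/

set_option autoImplicit false

namespace Cfsg.Agent.Lib.HallSym

open Equiv Cfsg

variable {π : Set ℕ}

/-- The partition into two triples and the rest. -/
def triFun (n : ℕ) (x : Fin n) : Fin 3 := if x.val < 3 then 0 else if x.val < 6 then 1 else 2

theorem not_dPi_seven (hπ : ∀ r : ℕ, r.Prime → r ≤ 7 → (r ∈ π ↔ (r = 2 ∨ r = 3)))
    (hsmall : 72 ∣ 6 ^ 8 → ∀ q : ℕ, q.Prime → q ∣ 72 → q ∈ π) :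
    ¬ IsDPiGroup π (alternatingGroup (Fin 7)) := by
  refine not_dPi_of_generators (j := 3) (triFun 7)
    [swap 0 1 * swap 1 2, swap 0 3 * swap 1 4 * swap 2 5 * swap 0 1]
    (isPiHall_small hπ (by norm_num) (N := 144) (by decide) (by norm_num)
      ((card_splitStab (n := 7) (j := 3) (by norm_num) (by norm_num)).trans (by decide))) ?_ ?_ ?_ (by norm_num)
  · intro q hq hd
    rw [card_blockStab, blockSizes_ker _ (show Function.Surjective (triFun 7) by decide)] at hd
    exact hsmall (by norm_num) q hq (hd.trans (by decide +kernel))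
  · intro g hg
    rw [mem_blockStab_ker]
    simp only [List.mem_cons, List.not_mem_nil, or_false] at hg
    rcases hg with rfl | rfl <;> decide +kernel
  · intro c hc
    have key : ∀ b0 b1 b2 b3 b4 b5 b6 : Bool, (Finset.univ.filter fun x => (![b0, b1, b2, b3, b4, b5, b6] : Fin 7 → Bool) x = true).card = 3 →
        ∃ g ∈ ([swap 0 1 * swap 1 2, swap 0 3 * swap 1 4 * swap 2 5 * swap 0 1] : List (Perm (Fin 7))), ∃ a b,
          ¬ ((![b0, b1, b2, b3, b4, b5, b6] : Fin 7 → Bool) (g a) = (![b0, b1, b2, b3, b4, b5, b6] : Fin 7 → Bool) (g b) ↔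
            (![b0, b1, b2, b3, b4, b5, b6] : Fin 7 → Bool) a = (![b0, b1, b2, b3, b4, b5, b6] : Fin 7 → Bool) b) := by
      decide +kernel
    have e : (![c 0, c 1, c 2, c 3, c 4, c 5, c 6] : Fin 7 → Bool) = c := by
      funext x
      fin_cases x <;> rfl
    have h := key (c 0) (c 1) (c 2) (c 3) (c 4) (c 5) (c 6)
    rw [e] at h
    exact h hc

theorem not_dPi_eight (hπ : ∀ r : ℕ, r.Prime → r ≤ 8 → (r ∈ π ↔ (r = 2 ∨ r = 3)))
    (hsmall : 144 ∣ 6 ^ 8 → ∀ q : ℕ, q.Prime → q ∣ 144 → q ∈ π) :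
    ¬ IsDPiGroup π (alternatingGroup (Fin 8)) := by
  refine not_dPi_of_generators (j := 4) (triFun 8)
    [swap 0 1 * swap 1 2, swap 0 3 * swap 1 4 * swap 2 5 * swap 6 7, swap 0 1 * swap 6 7]
    (isPiHall_small hπ (by norm_num) (N := 1152) (by decide) (by norm_num)
      ((card_splitStab (n := 8) (j := 4) (by norm_num) (by norm_num)).trans (by decide))) ?_ ?_ ?_ (by norm_num)
  · intro q hq hd
    rw [card_blockStab, blockSizes_ker _ (show Function.Surjective (triFun 8) by decide)] at hd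
    exact hsmall (by norm_num) q hq (hd.trans (by decide +kernel))
  · intro g hg
    rw [mem_blockStab_ker]
    simp only [List.mem_cons, List.not_mem_nil, or_false] at hg
    rcases hg with rfl | rfl | rfl <;> decide +kernel
  · intro c hc
    have key : ∀ b0 b1 b2 b3 b4 b5 b6 b7 : Bool, (Finset.univ.filter fun x => (![b0, b1, b2, b3, b4, b5, b6, b7] : Fin 8 → Bool) x = true).card = 4 →
        ∃ g ∈ ([swap 0 1 * swap 1 2, swap 0 3 * swap 1 4 * swap 2 5 * swap 6 7, swap 0 1 * swap 6 7] : List (Perm (Fin 8))), ∃ a b,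
          ¬ ((![b0, b1, b2, b3, b4, b5, b6, b7] : Fin 8 → Bool) (g a) = (![b0, b1, b2, b3, b4, b5, b6, b7] : Fin 8 → Bool) (g b) ↔
            (![b0, b1, b2, b3, b4, b5, b6, b7] : Fin 8 → Bool) a = (![b0, b1, b2, b3, b4, b5, b6, b7] : Fin 8 → Bool) b) := by
      decide +kernel
    have e : (![c 0, c 1, c 2, c 3, c 4, c 5, c 6, c 7] : Fin 8 → Bool) = c := by
      funext x
      fin_cases x <;> rfl
    have h := key (c 0) (c 1) (c 2) (c 3) (c 4) (c 5) (c 6) (c 7)
    rw [e] at h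
    exact h hc

end Cfsg.Agent.Lib.HallSym
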