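import Cfsg.Agent.Lib.HallSym.Exist

/-!
The Sylow analogue for sets of primes in alternating groups.
-/

set_option autoImplicit false

namespace Cfsg.Agent.Lib.HallSym

open Equiv Cfsg

section General

universe u

variable {G : Type u} [Group G] [Finite G] {π : Set ℕ}

theorem exists_maximal_ge {K : Subgroup G} (hK : IsPiSubgroup π K) :
    ∃ H : Subgroup G, K ≤ H ∧ Maximal (IsPiSubgroup π) H :=
  Finite.exists_le_maximal (p := IsPiSubgroup π) hK

theorem dPi_maximal_isPiHall (hD : IsDPiGroup π G) {H : Subgroup G} (hH : Maximal (IsPiSubgroup π) H) :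
    IsPiHall π H := by
  refine ⟨hH.1, fun q hq hqπ hd => ?_⟩
  haveI : Fact q.Prime := ⟨hq⟩
  obtain ⟨P⟩ : Nonempty (Sylow q G) := inferInstance
  have hP : IsPiSubgroup π (P : Subgroup G) := fun p hp hpd => by
    obtain ⟨j, hj⟩ := P.2.exists_card_eq
    rw [hj] at hpd
    rw [(Nat.prime_dvd_prime_iff_eq hp hq).1 (hp.dvd_of_dvd_pow hpd)]
    exact hqπ
  obtain ⟨K, hPK, hK⟩ := exists_maximal_ge hP
  obtain ⟨g, rfl⟩ := hD K H hK hH
  rw [show (MulAut.conj g).toMonoidHom = ((MulAut.conj g : G ≃* G) : G →* G) from rfl, Subgroup.index_map_equiv] at hd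
  exact P.not_dvd_index (hd.trans (Subgroup.index_dvd_of_le hPK))

theorem dPi_exists_hall_ge (hD : IsDPiGroup π G) {K : Subgroup G} (hK : IsPiSubgroup π K) :
    ∃ H : Subgroup G, K ≤ H ∧ IsPiHall π H := by
  obtain ⟨H, hKH, hH⟩ := exists_maximal_ge hK
  exact ⟨H, hKH, dPi_maximal_isPiHall hD hH⟩

end General

variable {n : ℕ} {π : Set ℕ}

/-- In a group with the Sylow analogue, every π-subgroup of the alternating group is conjugate, in the symmetric
group, into any given Hall subgroup of the symmetric group. -/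
theorem dPi_conj_into (hD : IsDPiGroup π (alternatingGroup (Fin n))) {M₁ : Subgroup (Perm (Fin n))}
    (hM₁ : IsPiHall π M₁) {Q : Subgroup (alternatingGroup (Fin n))} (hQ : IsPiSubgroup π Q) :
    ∃ σ : Perm (Fin n), ∀ q ∈ Q, σ⁻¹ * (q : Perm (Fin n)) * σ ∈ M₁ := by
  obtain ⟨H, hQH, hH⟩ := dPi_exists_hall_ge hD hQ
  obtain ⟨M₀, hM₀, rfl⟩ := exists_perm_of_alt hH
  obtain ⟨σ, hσ⟩ := conj_perm hM₁ hM₀
  refine ⟨σ, fun q hq => ?_⟩
  have h := hQH hq
  rw [Subgroup.mem_subgroupOf, hσ, Subgroup.mem_map_equiv, MulAut.conj_symm_apply] at h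
  exact h

theorem isPiSubgroup_subgroupOf {R : Setoid (Fin n)} (h : ∀ q : ℕ, q.Prime → q ∣ Nat.card (blockStab R) → q ∈ π) :
    IsPiSubgroup π ((blockStab R).subgroupOf (alternatingGroup (Fin n))) := by
  intro q hq hd
  refine h q hq (hd.trans ?_)
  rw [← Subgroup.inf_subgroupOf_right, Nat.card_congr (Subgroup.subgroupOfEquivOfLe inf_le_right).toEquiv]
  exact Subgroup.card_dvd_of_le inf_le_left

theorem mem_blockStab_ker {ι : Type*} {f : Fin n → ι} {g : Perm (Fin n)} :
    g ∈ blockStab (Setoid.ker f) ↔ ∀ a b, f (g a) = f (g b) ↔ f a = f b :=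
  Iff.rfl

theorem not_dPi_prime (hn : n.Prime) (h5 : 5 ≤ n) (hπ : ∀ r : ℕ, r.Prime → r ≤ n → (r ∈ π ↔ r < n))
    (hM₁ : IsPiHall π (blockStab (Setoid.ker (splitFun n 1)))) :
    ¬ IsDPiGroup π (alternatingGroup (Fin n)) := by
  intro hD
  obtain ⟨σ, hσ⟩ := dPi_conj_into hD hM₁
    (Q := (blockStab (Setoid.ker (splitFun n 2))).subgroupOf (alternatingGroup (Fin n)))
    (isPiSubgroup_subgroupOf fun q hq hd => by
      have hd' := hd.trans (Subgroup.card_subgroup_dvd_card _)
      rw [Nat.card_perm, Nat.card_fin] at hd'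
      refine (hπ q hq (hq.dvd_factorial.1 hd')).2 ?_
      rw [card_splitStab (by norm_num) (by omega)] at hd
      have hne : (2 : ℕ) ≠ n - 2 := by omega
      rw [show stabOrder {2, n - 2} = 2 * (n - 2).factorial by
        simp [stabOrder, hne, hne.symm, Multiset.insert_eq_cons, Nat.factorial]] at hd
      rcases hq.dvd_mul.1 hd with h | h
      · have := Nat.le_of_dvd (by norm_num) h
        omega
      · have := hq.dvd_factorial.1 h
        omega)
  -- the elements of the Hall subgroup fix the first point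
  have hfix : ∀ g ∈ blockStab (Setoid.ker (splitFun n 1)), g ⟨0, by omega⟩ = (⟨0, by omega⟩ : Fin n) := by
    intro g hg
    rw [mem_blockStab_ker] at hg
    by_contra hne
    obtain ⟨x, hx⟩ := g.surjective (⟨0, by omega⟩ : Fin n)
    have hx0 : x.val ≠ 0 := fun h => hne (by rw [show (⟨0, by omega⟩ : Fin n) = x from Fin.ext h.symm]; exact hx.trans (Fin.ext h.symm))
    let y : Fin n := if x.val = 1 then ⟨2, by omega⟩ else ⟨1, by omega⟩
    have hy : y.val ≠ 0 ∧ y ≠ x := by
      show (if x.val = 1 then (⟨2, _⟩ : Fin n) else ⟨1, _⟩).val ≠ 0 ∧ (if x.val = 1 then (⟨2, _⟩ : Fin n) else ⟨1, _⟩) ≠ x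
      split_ifs with h1
      · exact ⟨show (2 : ℕ) ≠ 0 by norm_num, fun e => by rw [← e] at h1; exact absurd h1 (show (2 : ℕ) ≠ 1 by norm_num)⟩
      · exact ⟨show (1 : ℕ) ≠ 0 by norm_num, fun e => h1 (by rw [← e])⟩
    have hs : ∀ z : Fin n, z.val ≠ 0 → splitFun n 1 z = 1 := fun z hz => if_neg (by omega)
    have h2 := (hg x y).2 ((hs x hx0).trans (hs y hy.1).symm)
    rw [hx, show splitFun n 1 ⟨0, by omega⟩ = 0 from if_pos (show 0 < 1 by norm_num)] at h2
    refine hy.2 (g.injective ?_)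
    rw [hx]
    apply Fin.ext
    show (g y).val = 0
    by_contra hgy
    rw [hs (g y) hgy] at h2
    exact absurd h2 (by decide)
  set a := σ ⟨0, by omega⟩ with ha
  have key : ∀ q ∈ (blockStab (Setoid.ker (splitFun n 2))).subgroupOf (alternatingGroup (Fin n)),
      (q : Perm (Fin n)) a = a := by
    intro q hq
    have := hfix _ (hσ q hq)
    rw [Perm.mul_apply, Perm.mul_apply, ← ha] at this
    have h2 := congrArg σ this
    rw [← ha] at h2
    simpa using h2
  -- an even element of the stabiliser of the pair moving `a`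
  have hswap : ∀ x y : Fin n, (x.val < 2 ↔ y.val < 2) → swap x y ∈ blockStab (Setoid.ker (splitFun n 2)) := by
    intro x y h
    refine swap_mem_blockStab ?_
    show splitFun n 2 x = splitFun n 2 y
    unfold splitFun
    simp only [h]
  have heven : ∀ x y z w : Fin n, x ≠ y → z ≠ w → (x.val < 2 ↔ y.val < 2) → (z.val < 2 ↔ w.val < 2) →
      (swap x y * swap z w : Perm (Fin n)) a = a := by
    intro x y z w hxy hzw h1 h2
    have hA : swap x y * swap z w ∈ alternatingGroup (Fin n) := by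
      rw [Perm.mem_alternatingGroup, map_mul, Perm.sign_swap hxy, Perm.sign_swap hzw]
      rfl
    exact key ⟨_, hA⟩ (Subgroup.mem_subgroupOf.2 (mul_mem (hswap x y h1) (hswap z w h2)))
  by_cases h2 : a.val < 2
  · have h := heven ⟨0, by omega⟩ ⟨1, by omega⟩ ⟨2, by omega⟩ ⟨3, by omega⟩
      (by simp) (by simp) (by simp) (by simp)
    rw [Perm.mul_apply, swap_apply_of_ne_of_ne (a := (⟨2, _⟩ : Fin n))
      (fun e => by rw [e] at h2; exact absurd h2 (show ¬ 2 < 2 by omega))
      (fun e => by rw [e] at h2; exact absurd h2 (show ¬ 3 < 2 by omega))] at h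
    rcases (show a.val = 0 ∨ a.val = 1 by omega) with e | e
    · rw [show a = ⟨0, by omega⟩ from Fin.ext e, swap_apply_left] at h
      exact absurd (congrArg Fin.val h) (show (1 : ℕ) ≠ 0 by norm_num)
    · rw [show a = ⟨1, by omega⟩ from Fin.ext e, swap_apply_right] at h
      exact absurd (congrArg Fin.val h) (show (0 : ℕ) ≠ 1 by norm_num)
  · obtain ⟨y, z, hy, hz, hay, haz, hyz⟩ : ∃ y z : Fin n, 2 ≤ y.val ∧ 2 ≤ z.val ∧ a ≠ y ∧ a ≠ z ∧ y ≠ z := by
      by_cases e2 : a.val = 2
      · exact ⟨⟨3, by omega⟩, ⟨4, by omega⟩, show 2 ≤ 3 by norm_num, show 2 ≤ 4 by norm_num,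
          Fin.ne_of_val_ne (show a.val ≠ 3 by omega), Fin.ne_of_val_ne (show a.val ≠ 4 by omega),
          Fin.ne_of_val_ne (show (3 : ℕ) ≠ 4 by norm_num)⟩
      · by_cases e3 : a.val = 3
        · exact ⟨⟨2, by omega⟩, ⟨4, by omega⟩, show 2 ≤ 2 by norm_num, show 2 ≤ 4 by norm_num,
            Fin.ne_of_val_ne (show a.val ≠ 2 by omega), Fin.ne_of_val_ne (show a.val ≠ 4 by omega),
            Fin.ne_of_val_ne (show (2 : ℕ) ≠ 4 by norm_num)⟩
        · exact ⟨⟨2, by omega⟩, ⟨3, by omega⟩, show 2 ≤ 2 by norm_num, show 2 ≤ 3 by norm_num,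
            Fin.ne_of_val_ne (show a.val ≠ 2 by omega), Fin.ne_of_val_ne (show a.val ≠ 3 by omega),
            Fin.ne_of_val_ne (show (2 : ℕ) ≠ 3 by norm_num)⟩
    have h := heven a y y z hay hyz (by omega) (by omega)
    rw [Perm.mul_apply, swap_apply_of_ne_of_ne hay haz, swap_apply_left] at h
    exact hay h.symm

/-- No two-block partition of the given shape is preserved by all the given elements. -/
theorem not_dPi_of_generators {j : ℕ} {ι : Type*} (f : Fin n → ι) (gens : List (Perm (Fin n)))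
    (hM₁ : IsPiHall π (blockStab (Setoid.ker (splitFun n j))))
    (hQ : ∀ q : ℕ, q.Prime → q ∣ Nat.card (blockStab (Setoid.ker f)) → q ∈ π)
    (hgen : ∀ g ∈ gens, g ∈ blockStab (Setoid.ker f) ∧ Perm.sign g = 1)
    (hno : ∀ c : Fin n → Bool, (Finset.univ.filter fun x => c x = true).card = j →
      ∃ g ∈ gens, ∃ a b, ¬ (c (g a) = c (g b) ↔ c a = c b))
    (hjn : j ≤ n) : ¬ IsDPiGroup π (alternatingGroup (Fin n)) := by
  intro hD
  obtain ⟨σ, hσ⟩ := dPi_conj_into hD hM₁ (Q := (blockStab (Setoid.ker f)).subgroupOf (alternatingGroup (Fin n)))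
    (isPiSubgroup_subgroupOf hQ)
  let c : Fin n → Bool := fun x => decide ((σ⁻¹ x).val < j)
  have hc : (Finset.univ.filter fun x => c x = true).card = j := by
    rw [← Finset.card_fin j]
    refine (Finset.card_bij (fun y _ => σ (Fin.castLE hjn y)) (fun y _ => ?_) (fun x _ y _ h => ?_)
      (fun x hx => ?_)).symm
    · simp only [Finset.mem_filter, Finset.mem_univ, true_and, c, decide_eq_true_eq, Perm.inv_def, Equiv.symm_apply_apply]
      exact y.isLt
    · exact Fin.castLE_injective hjn (σ.injective h)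
    · simp only [Finset.mem_filter, Finset.mem_univ, true_and, c, decide_eq_true_eq] at hx
      exact ⟨⟨(σ⁻¹ x).val, hx⟩, Finset.mem_univ _, by
        rw [show Fin.castLE hjn ⟨(σ⁻¹ x).val, hx⟩ = σ⁻¹ x from Fin.ext rfl]; simp⟩
  obtain ⟨g, hg, a, b, hab⟩ := hno c hc
  have h := hσ ⟨g, Perm.mem_alternatingGroup.2 (hgen g hg).2⟩ (Subgroup.mem_subgroupOf.2 (hgen g hg).1)
  rw [mem_blockStab_ker] at h
  have hiff : ∀ x y, c x = c y ↔ splitFun n j (σ⁻¹ x) = splitFun n j (σ⁻¹ y) := fun x y => by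
    simp only [c, splitFun, decide_eq_decide]
    by_cases h1 : (σ⁻¹ x).val < j <;> by_cases h2 : (σ⁻¹ y).val < j <;>
      simp only [h1, h2, if_true, if_false, iff_self, iff_false, false_iff, not_true_eq_false, not_false_eq_true] <;>
      decide
  refine hab ?_
  rw [hiff, hiff]
  simpa using h (σ⁻¹ a) (σ⁻¹ b)

end Cfsg.Agent.Lib.HallSym
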