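import Cfsg.Agent.Lib.HallSym.Props

/-!
The Hall subgroups of the symmetric groups for the exceptional sets of primes.
-/

set_option autoImplicit false

namespace Cfsg.Agent.Lib.HallSym

open Equiv Cfsg

variable {n : ℕ} {π : Set ℕ}

/-- The partition of `Fin n` into the first `j` points and the rest. -/
def splitFun (n j : ℕ) (x : Fin n) : Fin 2 := if x.val < j then 0 else 1

theorem card_splitStab {j : ℕ} (hj : 1 ≤ j) (hjn : j < n) :
    Nat.card (blockStab (Setoid.ker (splitFun n j))) = stabOrder {j, n - j} := by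
  have h0 : Fintype.card {x : Fin n // splitFun n j x = 0} = j := by
    rw [Fintype.card_subtype]
    have e : (Finset.univ.filter fun x : Fin n => splitFun n j x = 0) =
        (Finset.univ : Finset (Fin j)).map (Fin.castLEEmb hjn.le) := by
      ext x
      rw [Finset.mem_filter, Finset.mem_map]
      constructor
      · rintro ⟨-, h⟩
        by_cases hx : x.val < j
        · exact ⟨⟨x.val, hx⟩, Finset.mem_univ _, rfl⟩
        · rw [splitFun, if_neg hx] at h
          exact absurd h (by decide)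
      · rintro ⟨y, -, rfl⟩
        exact ⟨Finset.mem_univ _, if_pos y.isLt⟩
    rw [e, Finset.card_map, Finset.card_univ, Fintype.card_fin]
  have h1 : Fintype.card {x : Fin n // splitFun n j x = 1} = n - j := by
    have e : Fintype.card {x : Fin n // splitFun n j x = 1} = Fintype.card {x : Fin n // ¬ splitFun n j x = 0} :=
      Fintype.card_congr (Equiv.subtypeEquivRight fun x => by unfold splitFun; split_ifs <;> simp)
    rw [e, Fintype.card_subtype_compl, Fintype.card_fin, h0]
  have hsurj : Function.Surjective (splitFun n j) := fun i => by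
    fin_cases i
    · exact ⟨⟨0, by omega⟩, if_pos (show 0 < j by omega)⟩
    · exact ⟨⟨j, hjn⟩, if_neg (lt_irrefl j)⟩
  rw [card_blockStab, blockSizes_ker _ hsurj]
  congr 1
  simp [Fin.univ_succ, h0, h1, Multiset.insert_eq_cons]

theorem isPiHall_of_card {M : Subgroup (Perm (Fin n))} {N : ℕ} (hM : Nat.card M = N) {i : ℕ}
    (he : N * i = n.factorial) (h1 : ∀ q : ℕ, q.Prime → q ∣ N → q ∈ π) (h2 : ∀ q : ℕ, q.Prime → q ∈ π → ¬ q ∣ i) :
    IsPiHall π M := by
  refine ⟨fun q hq hd => h1 q hq (hM ▸ hd), fun q hq hqπ hd => h2 q hq hqπ ?_⟩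
  have h := M.card_mul_index
  rw [Nat.card_perm, Nat.card_fin, hM, ← he] at h
  have hN : 0 < N := hM ▸ Nat.card_pos
  rwa [Nat.eq_of_mul_eq_mul_left hN h] at hd

theorem isPiHall_splitOne (hn : n.Prime) (hn3 : 3 ≤ n) (hπ : ∀ r : ℕ, r.Prime → r ≤ n → (r ∈ π ↔ r < n)) :
    IsPiHall π (blockStab (Setoid.ker (splitFun n 1))) := by
  have hne : (1 : ℕ) ≠ n - 1 := by omega
  have hs : stabOrder {1, n - 1} = (n - 1).factorial := by
    simp [stabOrder, hne, hne.symm, Multiset.insert_eq_cons]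
  refine isPiHall_of_card ((card_splitStab (j := 1) le_rfl (by omega)).trans hs) (i := n)
    (by rw [mul_comm, Nat.mul_factorial_pred (by omega)]) (fun q hq hd => ?_) fun q hq hqπ hd => ?_
  · have := hq.dvd_factorial.1 hd
    exact (hπ q hq (by omega)).2 (by omega)
  · rw [Nat.prime_dvd_prime_iff_eq hq hn] at hd
    subst hd
    exact lt_irrefl q ((hπ q hq le_rfl).1 hqπ)

theorem isPiHall_small (hπ : ∀ r : ℕ, r.Prime → r ≤ n → (r ∈ π ↔ (r = 2 ∨ r = 3))) (h7 : 3 ≤ n) {N : ℕ}
    (he : N * 35 = n.factorial) (hN : N ∣ 6 ^ 8) {M : Subgroup (Perm (Fin n))} (hM : Nat.card M = N) :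
    IsPiHall π M := by
  refine isPiHall_of_card hM he (fun q hq hd => ?_) fun q hq hqπ hd => ?_
  · have h := hq.dvd_of_dvd_pow (hd.trans hN)
    rw [show (6 : ℕ) = 2 * 3 by norm_num] at h
    rcases hq.dvd_mul.1 h with h | h
    · obtain rfl := (Nat.prime_dvd_prime_iff_eq hq Nat.prime_two).1 h
      exact (hπ 2 hq (by omega)).2 (Or.inl rfl)
    · obtain rfl := (Nat.prime_dvd_prime_iff_eq hq Nat.prime_three).1 h
      exact (hπ 3 hq (by omega)).2 (Or.inr rfl)
  · have hqn : q ≤ n := hq.dvd_factorial.1 (hd.trans (Dvd.intro_left _ he))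
    rcases (hπ q hq hqn).1 hqπ with rfl | rfl <;> norm_num at hd

theorem exists_hall_of_shape (hn3 : 3 ≤ n)
    (h : (n.Prime ∧ ∀ r : ℕ, r.Prime → r ≤ n → (r ∈ π ↔ r < n)) ∨
      ((n = 7 ∨ n = 8) ∧ ∀ r : ℕ, r.Prime → r ≤ n → (r ∈ π ↔ (r = 2 ∨ r = 3)))) :
    IsEPiGroup π (Perm (Fin n)) := by
  rcases h with ⟨hn, hπ⟩ | ⟨hn, hπ⟩
  · exact ⟨_, isPiHall_splitOne hn hn3 hπ⟩
  · rcases hn with rfl | rfl
    · exact ⟨_, isPiHall_small hπ hn3 (N := 144) (by decide) (by norm_num)
        ((card_splitStab (n := 7) (j := 3) (by norm_num) (by norm_num)).trans (by decide))⟩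
    · exact ⟨_, isPiHall_small hπ hn3 (N := 1152) (by decide) (by norm_num)
        ((card_splitStab (n := 8) (j := 4) (by norm_num) (by norm_num)).trans (by decide))⟩

end Cfsg.Agent.Lib.HallSym
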