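import Mathlib

/-!
The equivalence relation generated by the three-cycles in a subgroup of a symmetric group, and the alternating
groups on its classes.
-/

set_option autoImplicit false

namespace Cfsg.Agent.Lib.HallSym

open Equiv Finset

variable {α : Type*} [Fintype α] [DecidableEq α] {G : Subgroup (Perm α)}

/-- `G` has a three-cycle with support `S`. -/
def HasTri (G : Subgroup (Perm α)) (S : Finset α) : Prop :=
  ∃ g ∈ G, g.IsThreeCycle ∧ g.support = S

theorem HasTri.card_eq {S : Finset α} (h : HasTri G S) : S.card = 3 := by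
  obtain ⟨g, -, hg, rfl⟩ := h
  exact hg.card_support

theorem HasTri.move {S T : Finset α} (hS : HasTri G S) (hT : HasTri G T) {p q : α} (hp : p ∈ T) (hq : q ∈ T) :
    ∃ k : Perm α, HasTri G (S.map k.toEmbedding) ∧ k p = q ∧ (∀ x, x ∉ T → k x = x) ∧ ∀ x, k x ∈ T → x ∈ T := by
  obtain ⟨g, hgG, hg, rfl⟩ := hS
  obtain ⟨h, hhG, hh, rfl⟩ := hT
  obtain ⟨i, hi⟩ := hh.isCycle.sameCycle (Perm.mem_support.1 hp) (Perm.mem_support.1 hq)
  refine ⟨h ^ i, ⟨(h ^ i) * g * (h ^ i)⁻¹, mul_mem (mul_mem (zpow_mem hhG i) hgG) (inv_mem (zpow_mem hhG i)), ?_, ?_⟩,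
    hi, fun x hx => Perm.notMem_support.1 fun hx' => hx (Perm.support_zpow_le h i hx'),
    fun x hx => Perm.zpow_apply_mem_support.1 hx⟩
  · rw [Perm.IsThreeCycle, Perm.cycleType_conj, hg]
  · exact Perm.support_conj

theorem HasTri.share {S T : Finset α} (hS : HasTri G S) (hT : HasTri G T) {a u v c : α}
    (haS : a ∈ S) (huS : u ∈ S) (hvS : v ∈ S) (huT : u ∈ T) (hvT : v ∈ T) (hcT : c ∈ T)
    (haT : a ∉ T) (huv : u ≠ v) (hcu : c ≠ u) (hcv : c ≠ v) : HasTri G {a, c, u} := by
  obtain ⟨k, hk, hkc, hfix, hmem⟩ := hS.move hT hcT hvT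
  have hTeq : T = {c, u, v} := by
    refine (eq_of_subset_of_card_le (by simp [insert_subset_iff, hcT, huT, hvT]) ?_).symm
    rw [hT.card_eq, card_insert_of_notMem (by simp [hcu, hcv]), card_pair huv]
  have hac : a ≠ c := fun h => haT (h ▸ hcT)
  have hau : a ≠ u := fun h => haT (h ▸ huT)
  have key : ∀ x ∈ T, x ≠ v → x ∈ S.map k.toEmbedding := by
    intro x hx hxv
    have h1 : k.symm x ∈ T := hmem _ (by simpa using hx)
    have h2 : k.symm x ≠ c := fun h => hxv (by rw [← hkc, ← h, Equiv.apply_symm_apply])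
    rw [hTeq, mem_insert, mem_insert, mem_singleton] at h1
    rw [mem_map_equiv]
    rcases h1 with h1 | h1 | h1
    · exact absurd h1 h2
    · rwa [h1]
    · rwa [h1]
  have hsub : ({a, c, u} : Finset α) ⊆ S.map k.toEmbedding := by
    simp only [insert_subset_iff, singleton_subset_iff]
    exact ⟨mem_map.2 ⟨a, haS, hfix a haT⟩, key c hcT hcv, key u huT huv⟩
  rw [eq_of_subset_of_card_le hsub]
  · exact hk
  · rw [hk.card_eq, card_insert_of_notMem (by simp [hac, hau]), card_pair hcu]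

/-- Two points in the support of a common three-cycle, or equal. -/
def TriRel (G : Subgroup (Perm α)) (a b : α) : Prop :=
  a = b ∨ ∃ S, HasTri G S ∧ a ∈ S ∧ b ∈ S

theorem TriRel.symm' {a b : α} (h : TriRel G a b) : TriRel G b a := by
  rcases h with h | ⟨S, hS, ha, hb⟩
  · exact Or.inl h.symm
  · exact Or.inr ⟨S, hS, hb, ha⟩

theorem TriRel.trans' {a b c : α} (h1 : TriRel G a b) (h2 : TriRel G b c) : TriRel G a c := by
  rcases h1 with rfl | ⟨S, hS, ha, hb⟩
  · exact h2
  rcases h2 with rfl | ⟨T, hT, hb', hc⟩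
  · exact Or.inr ⟨S, hS, ha, hb⟩
  by_cases haT : a ∈ T
  · exact Or.inr ⟨T, hT, haT, hc⟩
  obtain ⟨k, hk, hkb, hfix, -⟩ := hS.move hT hb' hc
  exact Or.inr ⟨_, hk, mem_map.2 ⟨a, ha, hfix a haT⟩, mem_map.2 ⟨b, hb, hkb⟩⟩

theorem TriRel.hasTri {a b c : α} (hab : TriRel G a b) (hbc : TriRel G b c) (nab : a ≠ b) (nbc : b ≠ c)
    (nac : a ≠ c) : HasTri G {a, b, c} := by
  obtain ⟨S, hS, ha, hb⟩ := hab.resolve_left nab
  obtain ⟨T, hT, hb', hc⟩ := hbc.resolve_left nbc
  have heq : ∀ U : Finset α, HasTri G U → a ∈ U → b ∈ U → c ∈ U → HasTri G {a, b, c} := fun U hU h1 h2 h3 => by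
    have e : ({a, b, c} : Finset α) = U := eq_of_subset_of_card_le (by simp [insert_subset_iff, h1, h2, h3])
      (by rw [hU.card_eq, card_insert_of_notMem (by simp [nab, nac]), card_pair nbc])
    rw [e]
    exact hU
  by_cases hcS : c ∈ S
  · exact heq S hS ha hb hcS
  by_cases haT : a ∈ T
  · exact heq T hT haT hb' hc
  obtain ⟨y, hy, hyb, hyc⟩ : ∃ y ∈ T, y ≠ b ∧ y ≠ c := by
    obtain ⟨y, hy⟩ := (T \ {b, c}).card_pos.1 (by
      rw [card_sdiff_of_subset (by simp [insert_subset_iff, hb', hc]), hT.card_eq, card_pair nbc]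
      norm_num)
    rw [mem_sdiff, mem_insert, mem_singleton, not_or] at hy
    exact ⟨y, hy.1, hy.2⟩
  have hay : a ≠ y := fun h => haT (h ▸ hy)
  by_cases hyS : y ∈ S
  · have := hS.share hT ha hb hyS hb' hy hc haT hyb.symm nbc.symm hyc.symm
    rwa [show ({a, b, c} : Finset α) = {a, c, b} by rw [pair_comm b c]]
  obtain ⟨k, hk, hkb, hfix, hmem⟩ := hT.move hS hb ha
  have h1 : a ∈ T.map k.toEmbedding := mem_map.2 ⟨b, hb', hkb⟩
  have h2 : c ∈ T.map k.toEmbedding := mem_map.2 ⟨c, hc, hfix c hcS⟩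
  have h3 : y ∈ T.map k.toEmbedding := mem_map.2 ⟨y, hy, hfix y hyS⟩
  have := hk.share hT h1 h2 h3 hc hy hb' haT hyc.symm nbc hyb.symm
  exact this

theorem mem_zpowers_of_support_eq {g h : Perm α} (hg : g.IsThreeCycle) (hh : h.IsThreeCycle)
    (he : h.support = g.support) : h ∈ Subgroup.zpowers g := by
  obtain ⟨a, ha⟩ := hg.isCycle.nonempty_support
  have key : ∀ f : Perm α, f.IsThreeCycle → f.support = g.support → f a = h a → f = h := by
    intro f hf hfs hfa
    have hne : ∀ e : Perm α, e.IsThreeCycle → a ∈ e.support →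
        e a ∈ e.support ∧ e (e a) ∈ e.support ∧ e a ≠ a ∧ e (e a) ≠ a ∧ e (e a) ≠ e a ∧ e (e (e a)) = a := by
      intro e he' hae
      have h3 : e (e (e a)) = a := by
        have h3 := pow_orderOf_eq_one e
        rw [he'.orderOf] at h3
        have h4 := DFunLike.congr_fun h3 a
        simpa [pow_succ] using h4
      have h1 := Perm.mem_support.1 hae
      refine ⟨Perm.apply_mem_support.2 hae, Perm.apply_mem_support.2 (Perm.apply_mem_support.2 hae), h1,
        fun h2 => h1 ?_, fun h2 => h1 (e.injective h2), h3⟩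
      rw [h2] at h3
      exact h3
    obtain ⟨f1, f2, f3, f4, f5, f6⟩ := hne f hf (hfs.symm ▸ ha)
    obtain ⟨g1, g2, g3, g4, g5, g6⟩ := hne h hh (he.symm ▸ ha)
    have hS : ∀ x ∈ h.support, x = a ∨ x = h a ∨ x = h (h a) := by
      have : ({a, h a, h (h a)} : Finset α) = h.support := eq_of_subset_of_card_le
        (by simp only [insert_subset_iff, singleton_subset_iff]; exact ⟨he.symm ▸ ha, g1, g2⟩)
        (by rw [hh.card_support, card_insert_of_notMem (by simp [g3.symm, g4.symm]), card_pair g5.symm])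
      intro x hx
      simpa [← this] using hx
    have hff : f (f a) = h (h a) := by
      rcases hS (f (f a)) (by rw [he, ← hfs]; exact f2) with h' | h' | h'
      · exact absurd h' f4
      · exact absurd (h'.trans hfa.symm) f5
      · exact h'
    ext x
    by_cases hx : x ∈ h.support
    · rcases hS x hx with rfl | rfl | rfl
      · exact hfa
      · rw [← hff, hfa]
      · rw [g6, ← hff, f6]
    · rw [Perm.notMem_support.1 hx, Perm.notMem_support.1 (by rwa [hfs, ← he])]
  have h1 : (g ^ 2).IsThreeCycle := by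
    rw [sq]
    exact Perm.IsThreeCycle.isThreeCycle_sq hg
  have hsupp : (g ^ 2).support = g.support :=
    eq_of_subset_of_card_le (Perm.support_pow_le g 2) (by rw [h1.card_support, hg.card_support])
  obtain ⟨i, hi⟩ := hg.isCycle.sameCycle (Perm.mem_support.1 ha)
    (Perm.mem_support.1 (show h a ∈ g.support from he ▸ Perm.apply_mem_support.2 (he.symm ▸ ha)))
  have hgi : (g ^ (i % 3)) a = h a := by
    rw [← hi, ← zpow_mod_orderOf g i, hg.orderOf]
    rfl
  rcases (show i % 3 = 0 ∨ i % 3 = 1 ∨ i % 3 = 2 by omega) with hm | hm | hm <;> rw [hm] at hgi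
  · rw [zpow_zero] at hgi
    exact absurd hgi.symm (Perm.mem_support.1 (he.symm ▸ ha))
  · rw [zpow_one] at hgi
    rw [← key g hg rfl hgi]
    exact Subgroup.mem_zpowers g
  · rw [← key (g ^ 2) h1 hsupp (by exact_mod_cast hgi)]
    exact Subgroup.npow_mem_zpowers g 2

theorem HasTri.mem {S : Finset α} (hS : HasTri G S) {h : Perm α} (hh : h.IsThreeCycle) (he : h.support = S) :
    h ∈ G := by
  obtain ⟨g, hgG, hg, rfl⟩ := hS
  exact (Subgroup.zpowers_le.2 hgG) (mem_zpowers_of_support_eq hg hh he)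

/-- The alternating group on a class lies in `G`. -/
theorem alternating_class_le (P : α → Prop) [DecidablePred P] (h : ∀ a b, P a → P b → TriRel G a b) :
    (alternatingGroup {x // P x}).map Perm.ofSubtype ≤ G := by
  rw [← Perm.closure_three_cycles_eq_alternating, MonoidHom.map_closure, Subgroup.closure_le]
  rintro _ ⟨g, hg, rfl⟩
  have hg : g.IsThreeCycle := hg
  obtain ⟨a, b, c, hab, hac, hbc, hs⟩ := card_eq_three.1 hg.card_support
  have htri := (h a b a.2 b.2).hasTri (h b c b.2 c.2) (Subtype.coe_injective.ne hab) (Subtype.coe_injective.ne hbc)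
    (Subtype.coe_injective.ne hac)
  refine htri.mem ?_ ?_
  · rw [Perm.IsThreeCycle, Perm.cycleType_ofSubtype, hg]
  · rw [Perm.support_ofSubtype, hs]
    simp [map_insert]

end Cfsg.Agent.Lib.HallSym
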