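import Cfsg.Agent.Lib.HallSym.Blocks
import Cfsg.Agent.Lib.HallSym.Full
import Cfsg.Agent.Lib.HallSym.Triples
import Cfsg.Prelude.Def_OddOrderLocal

/-!
A full subgroup of an alternating group, for a set of primes containing 2 and 3 but not all primes, is the even
part of the stabiliser of a set partition of one of three shapes.
-/

set_option autoImplicit false

namespace Cfsg.Agent.Lib.HallSym

open Equiv Finset

variable {α : Type*} [Fintype α] [DecidableEq α]

/-- A point moved by no three-cycle of `G`. -/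
def Lonely (G : Subgroup (Perm α)) (a : α) : Prop := a ∈ cycleFree G 3

theorem HasTri.not_lonely {G : Subgroup (Perm α)} {S : Finset α} (h : HasTri G S) {a : α} (ha : a ∈ S) :
    ¬ Lonely G a := by
  obtain ⟨g, hgG, hg, rfl⟩ := h
  exact fun hl => mem_cycleFree.1 hl g hgG hg.isCycle hg.card_support ha

/-- Equal, in a common three-cycle of `G`, or both lonely. -/
def classSetoid (G : Subgroup (Perm α)) : Setoid α where
  r a b := TriRel G a b ∨ (Lonely G a ∧ Lonely G b)
  iseqv :=
    { refl := fun a => Or.inl (Or.inl rfl)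
      symm := fun h => h.imp TriRel.symm' And.symm
      trans := by
        rintro a b c (h1 | h1) (h2 | h2)
        · exact Or.inl (h1.trans' h2)
        · rcases h1 with rfl | ⟨S, hS, -, hb⟩
          · exact Or.inr h2
          · exact absurd h2.1 (hS.not_lonely hb)
        · rcases h2 with rfl | ⟨S, hS, hb, -⟩
          · exact Or.inr h1
          · exact absurd h1.2 (hS.not_lonely hb)
        · exact Or.inr ⟨h1.1, h2.2⟩ }

theorem lonely_map {G : Subgroup (Perm α)} {h : Perm α} (hn : ∀ g, g ∈ G → h⁻¹ * g * h ∈ G) {a : α}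
    (ha : Lonely G a) : Lonely G (h a) := by
  refine mem_cycleFree.2 fun g hg hc hq hx => mem_cycleFree.1 ha _ (hn g hg) ?_ ?_ ?_
  · simpa using hc.conj (g := h⁻¹)
  · simpa [hq] using Perm.card_support_conj (σ := h⁻¹) (τ := g)
  · rw [Perm.mem_support] at hx ⊢
    simp only [Perm.mul_apply]
    intro h'
    exact hx (by simpa using congrArg h h')

/-- The normaliser of `G` preserves the classes. -/
theorem mem_blockStab_of_normalizes {G : Subgroup (Perm α)} {H : Subgroup (Perm α)}
    (hn : ∀ h ∈ H, ∀ g ∈ G, h * g * h⁻¹ ∈ G) : H ≤ blockStab (classSetoid G) := by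
  refine le_blockStab fun h hh a b hab => ?_
  rcases hab with (rfl | ⟨S, ⟨g, hgG, hg, hgS⟩, ha, hb⟩) | ⟨ha, hb⟩
  · exact (classSetoid G).iseqv.refl _
  · refine Or.inl (Or.inr ⟨S.map h.toEmbedding, ⟨h * g * h⁻¹, hn h hh g hgG, ?_, ?_⟩, mem_map_of_mem _ ha,
      mem_map_of_mem _ hb⟩)
    · rw [Perm.IsThreeCycle, Perm.cycleType_conj, hg]
    · rw [Perm.support_conj, hgS]
  · have hn' : ∀ g, g ∈ G → h⁻¹ * g * h ∈ G := fun g hg => by
      simpa using hn h⁻¹ (inv_mem hh) g hg
    exact Or.inr ⟨lonely_map hn' ha, lonely_map hn' hb⟩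

theorem card_eq_two_mul {H : Subgroup (Perm α)} {s : Perm α} (hs : s ∈ H) (hodd : Perm.sign s = -1) :
    Nat.card H = Nat.card (H ⊓ alternatingGroup α : Subgroup (Perm α)) * 2 := by
  set φ := (Perm.sign (α := α)).comp H.subtype with hφ
  have hker : φ.ker = (H ⊓ alternatingGroup α).subgroupOf H := by
    ext x
    simp [hφ, Subgroup.mem_subgroupOf, Perm.mem_alternatingGroup, MonoidHom.mem_ker]
  have hrange : φ.range = ⊤ := by
    refine eq_top_iff.2 fun u _ => ?_
    rcases Int.units_eq_one_or u with rfl | rfl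
    · exact one_mem _
    · exact ⟨⟨s, hs⟩, hodd⟩
  rw [← φ.ker.card_mul_index, Subgroup.index_ker, hrange, Subgroup.card_top, hker,
    Nat.card_congr (Subgroup.subgroupOfEquivOfLe inf_le_left).toEquiv]
  congr 1
  rw [Nat.card_eq_fintype_card]
  rfl

/-- The shapes of the partitions that occur. -/
def Shape (p n : ℕ) (s : Multiset ℕ) : Prop :=
  (n = p ∧ s = {1, p - 1}) ∨ (p = 5 ∧ n = 7 ∧ s = {3, 4}) ∨ (p = 5 ∧ n = 8 ∧ s = {4, 4})

theorem Shape.unique {p n : ℕ} {s t : Multiset ℕ} (hs : Shape p n s) (ht : Shape p n t) : s = t := by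
  rcases hs with ⟨h1, rfl⟩ | ⟨h1, h2, rfl⟩ | ⟨h1, h2, rfl⟩ <;>
    rcases ht with ⟨g1, rfl⟩ | ⟨g1, g2, rfl⟩ | ⟨g1, g2, rfl⟩ <;> first | rfl | omega

theorem Shape.prime_dvd_lt {p n : ℕ} {s : Multiset ℕ} (hs : Shape p n s) (hp5 : 5 ≤ p) {q : ℕ} (hq : q.Prime)
    (h : q ∣ stabOrder s) : q < p := by
  rcases hs with ⟨-, rfl⟩ | ⟨rfl, -, rfl⟩ | ⟨rfl, -, rfl⟩
  · have hne : (1 : ℕ) ≠ p - 1 := by omega
    have e : stabOrder {1, p - 1} = (p - 1).factorial := by
      simp [stabOrder, hne, hne.symm, Multiset.insert_eq_cons]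
    rw [e] at h
    have := hq.dvd_factorial.1 h
    omega
  all_goals
    by_contra hlt
    have h2 : q ∣ Nat.factorial 4 ^ 3 := h.trans (by decide)
    have := hq.dvd_factorial.1 (hq.dvd_of_dvd_pow h2)
    omega

/-- The classification. -/
theorem Full.structure_of_small_primes {π : Set ℕ} {G : Subgroup (Perm α)} (hG : Full π G) {p : ℕ} (hp : p.Prime)
    (hp5 : 5 ≤ p) (hpn : p ≤ Fintype.card α) (hbelow : ∀ q : ℕ, q.Prime → q < p → q ∈ π) (hpπ : p ∉ π) :
    (∀ q : ℕ, q.Prime → q ≤ Fintype.card α → (q ∈ π ↔ q < p)) ∧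
      Shape p (Fintype.card α) (blockSizes (classSetoid G)) ∧
      Cfsg.IsPiHall π (blockStab (classSetoid G)) ∧
      G = blockStab (classSetoid G) ⊓ alternatingGroup α := by
  classical
  set R := classSetoid G with hR
  have hnorm : ∀ h ∈ G, ∀ g ∈ G, h * g * h⁻¹ ∈ G := fun h hh g hg => mul_mem (mul_mem hh hg) (inv_mem hh)
  have hGS : G ≤ blockStab R := mem_blockStab_of_normalizes hnorm
  have h3 : (3 : ℕ) ∈ π := hbelow 3 Nat.prime_three (by omega)
  have hlone : (cycleFree G 3).card < 3 := hG.card_cycleFree_lt Nat.prime_three h3 (by norm_num)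
  have hα : Nontrivial α := Fintype.one_lt_card_iff_nontrivial.1 (by omega)
  -- classes are smaller than `p`
  have hclass : ∀ a, Nat.card {b // R.r a b} < p := by
    intro a
    by_cases ha : Lonely G a
    · have hsub : ∀ b, R.r a b → b ∈ cycleFree G 3 := by
        rintro b ((rfl | ⟨S, hS, haS, -⟩) | ⟨-, hb⟩)
        · exact ha
        · exact absurd ha (hS.not_lonely haS)
        · exact hb
      have := Nat.card_le_card_of_injective (fun b : {b // R.r a b} => (⟨b.1, hsub b.1 b.2⟩ : cycleFree G 3))
        fun b c h => Subtype.ext (congrArg (fun z : cycleFree G 3 => (z : α)) h :)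
      rw [Nat.card_eq_fintype_card (α := cycleFree G 3), Fintype.card_coe] at this
      omega
    · by_contra hlt
      push_neg at hlt
      have hrel : ∀ x y, R.r a x → R.r a y → TriRel G x y := by
        intro x y hx hy
        have h1 : ∀ z, R.r a z → TriRel G a z := fun z hz => hz.resolve_right fun h => ha h.1
        exact (h1 x hx).symm'.trans' (h1 y hy)
      have hle := alternating_class_le (G := G) (fun x => R.r a x) hrel
      haveI : Nontrivial {x // R.r a x} := Fintype.one_lt_card_iff_nontrivial.1 (by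
        rw [← Nat.card_eq_fintype_card]
        omega)
      have hp2 : p ∣ Nat.card (alternatingGroup {x // R.r a x}) := by
        have h1 : p ∣ 2 * Nat.card (alternatingGroup {x // R.r a x}) := by
          rw [two_mul_nat_card_alternatingGroup, Nat.card_perm]
          exact hp.dvd_factorial.2 hlt
        exact ((hp.dvd_mul).1 h1).resolve_left fun h => by
          have := Nat.le_of_dvd two_pos h
          omega
      refine hpπ (hG.pi p hp (hp2.trans ?_))
      have := Subgroup.card_dvd_of_le hle
      rwa [Subgroup.card_map_of_injective Perm.ofSubtype_injective] at this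
  have hsize : ∀ m ∈ blockSizes R, 1 ≤ m ∧ m < p := by
    intro m hm
    obtain ⟨q, -, rfl⟩ := Multiset.mem_map.1 hm
    refine ⟨blockSize_pos R q, ?_⟩
    obtain ⟨a, rfl⟩ := Quotient.exists_rep q
    rw [blockSize_mk]
    exact hclass a
  have hsingle : ∀ a b, (∀ x, R.r a x → x = a) → (∀ x, R.r b x → x = b) → a = b := by
    have hl : ∀ c, (∀ x, R.r c x → x = c) → Lonely G c := by
      intro c hc
      refine mem_cycleFree.2 fun g hg hcy hq hx => ?_
      have := hc (g c) (Or.inl (Or.inr ⟨g.support, ⟨g, hg, card_support_eq_three_iff.1 hq, rfl⟩, hx,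
        Perm.apply_mem_support.2 hx⟩))
      exact Perm.mem_support.1 hx this
    intro a b ha hb
    exact (ha b (Or.inr ⟨hl a ha, hl b hb⟩)).symm
  have hone : (blockSizes R).count 1 ≤ 1 := by
    rw [count_blockSizes, Finite.card_le_one_iff_subsingleton]
    refine ⟨fun ⟨q, hq⟩ ⟨q', hq'⟩ => Subtype.ext ?_⟩
    induction q using Quotient.inductionOn with
    | h a =>
      induction q' using Quotient.inductionOn with
      | h b =>
        rw [blockSize_mk] at hq hq'
        have hs : ∀ c, Nat.card {x // R.r c x} = 1 → ∀ x, R.r c x → x = c := fun c hc x hx => by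
          haveI := (Nat.card_eq_one_iff_unique.1 hc).1
          exact congrArg Subtype.val (Subsingleton.elim (⟨x, hx⟩ : {x // R.r c x}) ⟨c, R.iseqv.refl c⟩)
        exact congrArg (Quotient.mk R) (hsingle a b (hs a hq) (hs b hq'))
  -- an odd element
  obtain ⟨s, hs, hsodd⟩ : ∃ s ∈ blockStab R, Perm.sign s = -1 := by
    obtain ⟨a, b, hab⟩ := exists_pair_ne α
    by_contra hne
    have hsingleAll : ∀ c x, R.r c x → x = c := by
      intro c x hx
      by_contra hxc
      exact hne ⟨swap c x, swap_mem_blockStab hx, Perm.sign_swap (Ne.symm hxc)⟩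
    exact hab (hsingle a b (hsingleAll a) (hsingleAll b))
  have h2G : Nat.card G * 2 ∣ Nat.card (blockStab R) := by
    rw [card_eq_two_mul hs hsodd]
    exact mul_dvd_mul_right (Subgroup.card_dvd_of_le (le_inf hGS hG.le)) 2
  have hA : 2 * Nat.card (alternatingGroup α) = (Fintype.card α).factorial := by
    rw [two_mul_nat_card_alternatingGroup, Nat.card_perm, Nat.card_eq_fintype_card]
  have hpart : ∀ q k : ℕ, q.Prime → q < p → q ^ k ∣ (Fintype.card α).factorial → q ^ k ∣ Nat.card (blockStab R) := by
    intro q k hq hqp hk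
    rw [← hA] at hk
    by_cases hq2 : q = 2
    · subst hq2
      rcases k with - | k
      · simp
      rw [pow_succ] at hk ⊢
      refine dvd_trans (mul_dvd_mul_right (hG.part 2 k hq (hbelow 2 hq hqp) ?_) 2) h2G
      rw [mul_comm 2] at hk
      exact Nat.dvd_of_mul_dvd_mul_right two_pos hk
    · have hk' := Nat.Coprime.dvd_of_dvd_mul_left
        (((Nat.coprime_primes hq Nat.prime_two).2 hq2).pow_left k) hk
      exact (hG.part q k hq (hbelow q hq hqp) hk').trans ((dvd_mul_right _ 2).trans h2G)
  have hdvd := card_blockStab_dvd R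
  have hshape : Shape p (Fintype.card α) (blockSizes R) := by
    have hsum := sum_blockSizes R
    rcases classify hp hp5 (blockSizes R) hsize hone (hsum.symm ▸ hpn) (fun r k hr hrp hk =>
        (hpart r k hr hrp (hsum ▸ hk)).trans hdvd) with ⟨h1, h2⟩ | ⟨h1, h2 | h2⟩
    · exact Or.inl ⟨hsum ▸ h1, h2⟩
    · exact Or.inr (Or.inl ⟨h1, by rw [← hsum, h2]; rfl, h2⟩)
    · exact Or.inr (Or.inr ⟨h1, by rw [← hsum, h2]; rfl, h2⟩)
  -- no prime above `p`
  have hprimes : ∀ q : ℕ, q.Prime → q ≤ Fintype.card α → (q ∈ π ↔ q < p) := by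
    intro q hq hqn
    refine ⟨fun hqπ => ?_, hbelow q hq⟩
    by_contra hlt
    have hqp : p < q := lt_of_le_of_ne (not_lt.1 hlt) fun h => hpπ (h ▸ hqπ)
    obtain ⟨x, hxG, hxc, hxcard⟩ : ∃ x ∈ G, x.IsCycle ∧ x.support.card = q := by
      by_contra hne
      push_neg at hne
      have h := hG.card_cycleFree_lt hq hqπ (by omega)
      have : cycleFree G q = univ := eq_univ_of_forall fun a => mem_cycleFree.2 fun g hg hc hcq => absurd hcq (hne g hg hc)
      rw [this, card_univ] at h
      omega
    obtain ⟨a, ha⟩ := hxc.nonempty_support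
    have hstep := hGS hxG
    by_cases hxa : R.r a (x a)
    · -- the support lies in one class
      have hall : ∀ c ∈ x.support, R.r a c := by
        intro c hc
        obtain ⟨i, hi, rfl⟩ := (hxc.sameCycle (Perm.mem_support.1 ha) (Perm.mem_support.1 hc)).exists_pow_eq'
        clear hc hi
        induction i with
        | zero => exact R.iseqv.refl a
        | succ i ih =>
          rw [pow_succ', Perm.mul_apply]
          exact R.iseqv.trans hxa ((hstep a _).2 ih)
      have := Nat.card_le_card_of_injective (fun c : x.support => (⟨c.1, hall c.1 c.2⟩ : {b // R.r a b}))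
        fun b c h => Subtype.ext (congrArg (fun z : {b // R.r a b} => (z : α)) h :)
      rw [Nat.card_eq_fintype_card (α := x.support), Fintype.card_coe] at this
      have := hclass a
      omega
    · have hsing : ∀ c, R.r a c → c = a := by
        intro c hc
        by_contra hca
        by_cases hcs : c ∈ x.support
        · obtain ⟨i, hi, rfl⟩ := (hxc.sameCycle (Perm.mem_support.1 ha) (Perm.mem_support.1 hcs)).exists_pow_eq'
          have hord : orderOf x = q := by rw [hxc.orderOf, hxcard]
          rw [hord] at hi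
          have hi0 : i ≠ 0 := fun h => hca (by rw [h, pow_zero]; rfl)
          have hcop : Nat.Coprime i (orderOf x) := by
            rw [hord]
            exact Nat.coprime_comm.1 ((hq.coprime_iff_not_dvd).2 fun h => by
              have := Nat.le_of_dvd (by omega) h
              omega)
          obtain ⟨j, hj⟩ := Nat.exists_mul_mod_eq_one_of_coprime hcop (by omega)
          have hstep' : ∀ j, R.r a ((x ^ (i * j)) a) := by
            intro j
            induction j with
            | zero => exact R.iseqv.refl a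
            | succ j ih =>
              rw [mul_add, mul_one, pow_add, Perm.mul_apply]
              exact R.iseqv.trans ih ((hGS (pow_mem hxG (i * j)) a _).2 hc)
          refine hxa ?_
          have := hstep' j
          rw [← pow_mod_orderOf, hj.2, pow_one] at this
          exact this
        · have h1 := (hstep a c).2 hc
          rw [Perm.notMem_support.1 hcs] at h1
          exact hxa (R.iseqv.trans hc (R.iseqv.symm h1))
      have hsing' : ∀ c, R.r (x a) c → c = x a := by
        intro c hc
        obtain ⟨d, rfl⟩ : ∃ d, x d = c := ⟨x⁻¹ c, by simp⟩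
        rw [hsing d ((hstep a d).1 hc)]
      exact Perm.mem_support.1 ha (hsingle a (x a) hsing hsing').symm
  have hpi : ∀ q : ℕ, q.Prime → q ∣ Nat.card (blockStab R) → q ∈ π := fun q hq h =>
    hbelow q hq (hshape.prime_dvd_lt hp5 hq (h.trans hdvd))
  have hHall : Cfsg.IsPiHall π (blockStab R) := by
    refine ⟨hpi, fun q hq hqπ hqi => ?_⟩
    have hcm := (blockStab R).card_mul_index
    rw [Nat.card_perm, Nat.card_eq_fintype_card (α := α)] at hcm
    have hqn : q ≤ Fintype.card α := hq.dvd_factorial.1 (hcm ▸ Dvd.dvd.mul_left hqi _)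
    have hc0 : Nat.card (blockStab R) ≠ 0 := Nat.card_pos.ne'
    refine Nat.pow_succ_factorization_not_dvd hc0 hq (hpart q _ hq ((hprimes q hq hqn).1 hqπ) ?_)
    rw [← hcm, pow_succ]
    exact mul_dvd_mul (Nat.ordProj_dvd _ _) hqi
  refine ⟨hprimes, hshape, hHall, Subgroup.eq_of_le_of_card_ge (le_inf hGS hG.le) (Nat.le_of_dvd Nat.card_pos ?_)⟩
  refine (Nat.dvd_iff_prime_pow_dvd_dvd _ _).2 fun q k hq hk => ?_
  rcases k with - | k
  · simp
  refine hG.part q (k + 1) hq (hpi q hq ?_) (hk.trans (Subgroup.card_dvd_of_le inf_le_right))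
  exact ((dvd_pow_self q k.succ_ne_zero).trans hk).trans (Subgroup.card_dvd_of_le inf_le_left)

end Cfsg.Agent.Lib.HallSym
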