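import Mathlib

/-!
The arithmetic behind Hall subgroups of symmetric groups: binomial and multinomial coefficients without small
prime factors.
-/

set_option autoImplicit false

namespace Cfsg.Agent.Lib.HallSym

open Finset

/-- No prime below `p` divides `N`. -/
def Good (p N : ℕ) : Prop := ∀ r, r.Prime → r < p → ¬ r ∣ N

theorem Good.of_dvd {p N N' : ℕ} (h : Good p N) (hd : N' ∣ N) : Good p N' :=
  fun r hr hrp h' => h r hr hrp (h'.trans hd)

theorem Good.coprime {p N m : ℕ} (h : Good p N) (hm : 0 < m) (hmp : m < p) : m.Coprime N :=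
  Nat.coprime_of_dvd fun r hr h1 h2 => h r hr ((Nat.le_of_dvd hm h1).trans_lt hmp) h2

theorem shift {p a b : ℕ} (ha : 1 ≤ a) (hb : b + 1 < p) (h : Good p ((a + b).choose a)) : b + 1 ∣ a := by
  refine (h.coprime (by omega) hb).dvd_of_dvd_mul_left ⟨(a + b).choose (a - 1), ?_⟩
  have e := Nat.choose_succ_right_eq (a + b) (a - 1)
  rw [Nat.sub_add_cancel ha, show a + b - (a - 1) = b + 1 by omega] at e
  rw [e, mul_comm]

theorem prod_Ico_eq (M k : ℕ) :
    ∏ j ∈ range k, (M + 1 + j) = (M + k).choose k * k.factorial := by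
  rw [← Nat.ascFactorial_eq_prod_range, Nat.ascFactorial_eq_factorial_mul_choose, mul_comm]

theorem hit6 (q : ℕ) : ∑ i ∈ range 6, (if 2 ∣ q + i ∨ 3 ∣ q + i then 1 else 0) = 4 := by
  induction q with
  | zero => decide
  | succ q ih =>
    have e : (2 ∣ q + 1 + 5 ∨ 3 ∣ q + 1 + 5) ↔ (2 ∣ q + 0 ∨ 3 ∣ q + 0) := by omega
    rw [sum_range_succ]
    rw [sum_range_succ'] at ih
    simp only [show ∀ i, q + 1 + i = q + (i + 1) from fun i => by omega] at e ⊢
    simp only [e]
    exact ih

theorem sieve_count {p : ℕ} (h6 : p % 6 = 1 ∨ p % 6 = 5) : ∀ k,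
    2 * k ≤ 3 * ((range k).filter fun j => 2 ∣ p + j ∨ 3 ∣ p + j).card + 3 := by
  intro k
  induction k using Nat.strong_induction_on with
  | _ k ih =>
    rw [Finset.card_filter]
    rcases lt_or_ge k 6 with hk | hk
    · interval_cases k <;> simp only [Finset.sum_range_succ, Finset.sum_range_zero] <;> (repeat' split) <;> omega
    · obtain ⟨k', rfl⟩ : ∃ k', k = k' + 6 := ⟨k - 6, by omega⟩
      have h := ih k' (by omega)
      rw [Finset.card_filter] at h
      rw [Finset.sum_range_add]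
      have h2 := hit6 (p + k')
      simp only [add_assoc] at h2
      omega

theorem sieve_prod_dvd {p k : ℕ} (hp5 : 5 ≤ p) (hk : k < p) (h : Good p ((p - 1 + k).choose k)) :
    ∏ j ∈ (range k).filter (fun j => 2 ∣ p + j ∨ 3 ∣ p + j), (p + j) ∣ k.factorial := by
  refine Nat.Coprime.dvd_of_dvd_mul_left (m := (p - 1 + k).choose k) ?_ ?_
  · refine Nat.Coprime.prod_left fun j hj => ?_
    rw [mem_filter, mem_range] at hj
    rcases hj.2 with h2 | h3
    · obtain ⟨c, hc⟩ := h2
      rw [hc]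
      exact (h.coprime two_pos (by omega)).mul_left (h.coprime (by omega) (by omega))
    · obtain ⟨c, hc⟩ := h3
      rw [hc]
      exact (h.coprime three_pos (by omega)).mul_left (h.coprime (by omega) (by omega))
  · refine (prod_dvd_prod_of_subset _ (range k) (fun j => p + j) (filter_subset _ _)).trans ?_
    rw [← prod_Ico_eq (p - 1) k, show p - 1 + 1 = p by omega]

theorem two_mul_pow_le (a : ℕ) : ∀ j, a ^ j * (a + j) ≤ (a + 1) ^ j * a := by
  intro j
  induction j with
  | zero => simp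
  | succ j ih =>
    calc a ^ (j + 1) * (a + (j + 1)) = a ^ j * (a * (a + j + 1)) := by ring
      _ ≤ a ^ j * ((a + 1) * (a + j)) := Nat.mul_le_mul_left _ (by nlinarith)
      _ = (a + 1) * (a ^ j * (a + j)) := by ring
      _ ≤ (a + 1) * ((a + 1) ^ j * a) := Nat.mul_le_mul_left _ ih
      _ = _ := by ring

theorem amgm_fact : ∀ k, k.factorial * 2 ^ k ≤ (k + 1) ^ k := by
  intro k
  induction k with
  | zero => simp
  | succ k ih =>
    have hb : 2 * (k + 1) ^ (k + 1) ≤ (k + 2) ^ (k + 1) := by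
      have h := two_mul_pow_le (k + 1) (k + 1)
      ring_nf at h ⊢
      nlinarith
    calc (k + 1).factorial * 2 ^ (k + 1) = 2 * (k + 1) * (k.factorial * 2 ^ k) := by
          rw [Nat.factorial_succ, pow_succ]; ring
      _ ≤ 2 * (k + 1) * (k + 1) ^ k := Nat.mul_le_mul_left _ ih
      _ = 2 * (k + 1) ^ (k + 1) := by ring
      _ ≤ _ := hb

theorem big_pow : ∀ k, 6 ≤ k → (k + 1) ^ 9 < 2 ^ (4 * k + 3) := by
  intro k hk
  induction k, hk using Nat.le_induction with
  | base => norm_num
  | succ k hk ih =>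
    have h1 : (k + 1 + 1) ^ 9 ≤ 16 * (k + 1) ^ 9 := by
      have h2 : 7 * (k + 1 + 1) ≤ 8 * (k + 1) := by omega
      have h3 := Nat.pow_le_pow_left h2 9
      rw [mul_pow, mul_pow] at h3
      norm_num at h3
      nlinarith [h3, Nat.zero_le ((k + 1) ^ 9)]
    calc (k + 1 + 1) ^ 9 ≤ 16 * (k + 1) ^ 9 := h1
      _ < 16 * 2 ^ (4 * k + 3) := Nat.mul_lt_mul_of_pos_left ih (by norm_num)
      _ = 2 ^ (4 * (k + 1) + 3) := by ring

/-- The case `k + 2 = p`. -/
theorem middle_case {p M : ℕ} (hp : p.Prime) (hp5 : 5 ≤ p) (hM : p = M + 1)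
    (h : Good p ((2 * M - 1).choose (M - 1))) : M = 4 := by
  have h2 := h 2 Nat.prime_two (by omega)
  have hpow : ∀ m, 1 ≤ m → ¬ 2 ∣ (2 * m - 1).choose (m - 1) → ∃ a, m = 2 ^ a := by
    intro m
    induction m using Nat.strong_induction_on with
    | _ m ih =>
      intro hm hodd
      haveI : Fact (Nat.Prime 2) := ⟨Nat.prime_two⟩
      have hl := Choose.choose_modEq_choose_mod_mul_choose_div_nat (p := 2) (n := 2 * m - 1) (k := m - 1)
      rw [show (2 * m - 1) % 2 = 1 by omega, show (2 * m - 1) / 2 = m - 1 by omega] at hl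
      rcases Nat.even_or_odd m with ⟨j, rfl⟩ | ⟨j, rfl⟩
      · rw [show (j + j - 1) % 2 = 1 by omega, show (j + j - 1) / 2 = j - 1 by omega, Nat.choose_self, one_mul] at hl
        obtain ⟨a, ha⟩ := ih j (by omega) (by omega) (by
          rw [show 2 * j - 1 = j + j - 1 by omega, ← hl.dvd_iff dvd_rfl]
          exact hodd)
        exact ⟨a + 1, by rw [pow_succ, ← ha]; omega⟩
      · rcases Nat.eq_zero_or_pos j with rfl | hj
        · exact ⟨0, rfl⟩
        rw [show (2 * j + 1 - 1) % 2 = 0 by omega, show (2 * j + 1 - 1) / 2 = j by omega, Nat.choose_zero_right, one_mul,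
          Nat.add_sub_cancel] at hl
        exact absurd ((hl.dvd_iff dvd_rfl).2 (Nat.two_dvd_centralBinom_of_one_le hj)) hodd
  obtain ⟨a, ha⟩ := hpow M (by omega) h2
  have ha0 : a ≠ 0 := by rintro rfl; simp at ha; omega
  obtain ⟨b, hb⟩ := Nat.pow_of_pow_add_prime (a := 2) (n := a) (by norm_num) ha0 (by rw [← ha, ← hM]; exact hp)
  have h3 : a % 3 ≠ 0 := by
    rw [hb]
    intro h0
    have := Nat.Prime.dvd_of_dvd_pow Nat.prime_three (Nat.dvd_of_mod_eq_zero h0)
    omega
  by_cases ha2 : a ≤ 3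
  · interval_cases a <;> simp at ha <;> subst ha <;> first | rfl | (exfalso; omega) | (exfalso; subst hM; norm_num at hp)
  exfalso
  have hM16 : 16 ≤ M := by
    rw [ha]
    calc 16 = 2 ^ 4 := rfl
      _ ≤ 2 ^ a := Nat.pow_le_pow_right two_pos (by omega)
  rcases (show a % 3 = 1 ∨ a % 3 = 2 by omega) with h31 | h32
  · -- a carry modulo 9
    have he : Even a := by
      rw [hb, Nat.even_pow]
      refine ⟨even_two, fun h0 => ?_⟩
      rw [h0, pow_zero] at hb
      omega
    obtain ⟨u, hu⟩ : ∃ u, a = 6 * u + 4 := ⟨a / 6, by rw [Nat.even_iff] at he; omega⟩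
    have h9 : M % 9 = 7 := by
      rw [ha, hu, pow_add, pow_mul, Nat.mul_mod, Nat.pow_mod]
      norm_num
    apply h 3 Nat.prime_three (by omega)
    haveI : Fact (Nat.Prime 3) := ⟨Nat.prime_three⟩
    have hl := Choose.choose_modEq_choose_mod_mul_choose_div_nat (p := 3) (n := 2 * M - 1) (k := M - 1)
    have hl2 := Choose.choose_modEq_choose_mod_mul_choose_div_nat (p := 3) (n := (2 * M - 1) / 3) (k := (M - 1) / 3)
    rw [show (2 * M - 1) % 3 = 1 by omega, show (M - 1) % 3 = 0 by omega, Nat.choose_zero_right, one_mul] at hl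
    rw [show (2 * M - 1) / 3 % 3 = 1 by omega, show (M - 1) / 3 % 3 = 2 by omega,
      Nat.choose_eq_zero_of_lt (show 1 < 2 by norm_num), zero_mul] at hl2
    exact (hl.trans hl2).dvd_iff dvd_rfl |>.2 (dvd_zero 3)
  · obtain ⟨u, hu⟩ : ∃ u, a = 3 * u + 2 := ⟨a / 3, by omega⟩
    have h7 : M % 7 = 4 := by
      rw [ha, hu, pow_add, pow_mul, Nat.mul_mod, Nat.pow_mod]
      norm_num
    apply h 7 (by norm_num) (by omega)
    haveI : Fact (Nat.Prime 7) := ⟨by norm_num⟩
    have hl := Choose.choose_modEq_choose_mod_mul_choose_div_nat (p := 7) (n := 2 * M - 1) (k := M - 1)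
    rw [show (2 * M - 1) % 7 = 0 by omega, show (M - 1) % 7 = 3 by omega,
      Nat.choose_eq_zero_of_lt (show 0 < 3 by norm_num), zero_mul] at hl
    exact (hl.dvd_iff dvd_rfl).2 (dvd_zero 7)

/-- `C(p - 1 + k, k)` has no prime factor below `p` only for `k = 1` and for `(p, k) = (5, 3)`. -/
theorem good_choose_cases {p k : ℕ} (hp : p.Prime) (hp5 : 5 ≤ p) (hk1 : 1 ≤ k) (hk : k + 1 < p)
    (h : Good p ((p - 1 + k).choose k)) : k = 1 ∨ (p = 5 ∧ k = 3) := by
  rcases eq_or_lt_of_le (show k + 2 ≤ p by omega) with hkp | hkp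
  · have hM := middle_case hp hp5 (M := p - 1) (by omega) (by
      rw [show 2 * (p - 1) - 1 = p - 1 + k by omega, show p - 1 - 1 = k by omega]; exact h)
    exact Or.inr ⟨by omega, by omega⟩
  have hdiv : k + 1 ∣ p - 1 := by
    refine shift (p := p) (by omega) hk ?_
    rw [← Nat.choose_symm (by omega), Nat.add_sub_cancel_left]
    exact h
  obtain ⟨t, ht⟩ := hdiv
  have hdiv2 : k + 2 ∣ (p - 1) * (p - 2) := by
    refine (h.coprime (by omega) hkp).dvd_of_dvd_mul_left ?_
    have e1 := Nat.choose_succ_right_eq (p - 1 + k) k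
    have e2 := Nat.choose_succ_right_eq (p - 1 + k) (k + 1)
    rw [show p - 1 + k - k = p - 1 by omega] at e1
    rw [show p - 1 + k - (k + 1) = p - 2 by omega, show k + 1 + 1 = k + 2 by omega] at e2
    refine ⟨(p - 1 + k).choose (k + 2) * (k + 1), ?_⟩
    rw [← mul_assoc, ← e1, mul_right_comm, ← e2]
    ring
  have ht0 : 1 ≤ t := Nat.pos_of_ne_zero fun h0 => by rw [h0, mul_zero] at ht; omega
  have htt : k + 2 ≤ t * (t + 1) := by
    refine Nat.le_of_dvd (by positivity) (Int.natCast_dvd_natCast.1 ?_)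
    have h1 : ((k + 2 : ℕ) : ℤ) ∣ ((p - 1 : ℕ) : ℤ) * ((p - 2 : ℕ) : ℤ) := by
      exact_mod_cast hdiv2
    have h2 : ((p - 1 : ℕ) : ℤ) = (k + 1) * t := by exact_mod_cast ht
    have h3 : ((p - 2 : ℕ) : ℤ) = (k + 1) * t - 1 := by omega
    rw [h2, h3] at h1
    push_cast at h1 ⊢
    have h4 := dvd_sub h1 (Dvd.intro ((k : ℤ) * t ^ 2 - t) rfl : ((k : ℤ) + 2) ∣ ((k : ℤ) + 2) * ((k : ℤ) * t ^ 2 - t))
    rw [show ((t : ℤ) * ((t : ℤ) + 1)) = ((k : ℤ) + 1) * t * (((k : ℤ) + 1) * t - 1) - ((k : ℤ) + 2) * ((k : ℤ) * t ^ 2 - t) by ring]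
    exact h4
  have hodd : p % 2 = 1 := Nat.odd_iff.1 (hp.odd_of_ne_two (by omega))
  have h3 : p % 3 ≠ 0 := fun h0 => by
    have := (Nat.prime_dvd_prime_iff_eq Nat.prime_three hp).1 (Nat.dvd_of_mod_eq_zero h0)
    omega
  have hprod := sieve_prod_dvd hp5 (by omega) h
  rcases lt_or_ge k 6 with hk6 | hk6
  · have hS : ∀ T : Finset ℕ, T ⊆ (range k).filter (fun j => 2 ∣ p + j ∨ 3 ∣ p + j) →
        ∏ j ∈ T, (p + j) ≤ k.factorial := fun T hT =>
      Nat.le_of_dvd k.factorial_pos ((prod_dvd_prod_of_subset T _ (fun j => p + j) hT).trans hprod)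
    have hmem : ∀ j, j < k → j % 2 = 1 → j ∈ (range k).filter (fun j => 2 ∣ p + j ∨ 3 ∣ p + j) := fun j hj hj2 => by
      rw [mem_filter, mem_range]
      exact ⟨hj, Or.inl (by omega)⟩
    interval_cases k
    · exact Or.inl rfl
    · have := hS {1} (singleton_subset_iff.2 (hmem 1 (by norm_num) rfl))
      rw [prod_singleton] at this
      norm_num [Nat.factorial] at this
      omega
    · have := hS {1} (singleton_subset_iff.2 (hmem 1 (by norm_num) rfl))
      rw [prod_singleton] at this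
      norm_num [Nat.factorial] at this
      exact Or.inr ⟨by omega, rfl⟩
    · have := hS {1, 3} (insert_subset_iff.2 ⟨hmem 1 (by norm_num) rfl, singleton_subset_iff.2 (hmem 3 (by norm_num) rfl)⟩)
      rw [prod_pair (by norm_num)] at this
      norm_num [Nat.factorial] at this
      nlinarith
    · have := hS {1, 3} (insert_subset_iff.2 ⟨hmem 1 (by norm_num) rfl, singleton_subset_iff.2 (hmem 3 (by norm_num) rfl)⟩)
      rw [prod_pair (by norm_num)] at this
      norm_num [Nat.factorial] at this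
      have hp8 : 11 ≤ p := by
        by_contra hlt
        interval_cases p <;> first | omega | (norm_num at hp)
      nlinarith
  exfalso
  set c := ((range k).filter fun j => 2 ∣ p + j ∨ 3 ∣ p + j).card with hc
  have hcount : 2 * k ≤ 3 * c + 3 := sieve_count (by omega) k
  have h1 : p ^ c ≤ k.factorial := by
    refine le_trans ?_ (Nat.le_of_dvd k.factorial_pos hprod)
    exact Finset.pow_card_le_prod _ _ _ fun j _ => Nat.le_add_right p j
  have h2 : (p ^ c * 2 ^ k) ^ 6 ≤ ((k + 1) ^ k) ^ 6 :=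
    Nat.pow_le_pow_left ((Nat.mul_le_mul_right _ h1).trans (amgm_fact k)) 6
  have h4 : (k + 1) ^ 3 ≤ 2 * p ^ 2 := by
    have e1 : (k + 1) * t ≤ p := by omega
    have e2 : (k + 1) ^ 2 * (t * (t + 1)) ≤ 2 * ((k + 1) * t) ^ 2 := by nlinarith
    have e3 := Nat.mul_le_mul_left ((k + 1) ^ 2) htt
    have e4 := Nat.pow_le_pow_left e1 2
    nlinarith
  obtain ⟨l, hl⟩ : ∃ l, 2 * k = l + 3 := ⟨2 * k - 3, by omega⟩
  have h5 : ((k + 1) ^ 3) ^ l * 2 ^ (6 * k) ≤ 2 ^ l * (k + 1) ^ (6 * k) :=
    calc ((k + 1) ^ 3) ^ l * 2 ^ (6 * k) ≤ (2 * p ^ 2) ^ l * 2 ^ (6 * k) :=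
          Nat.mul_le_mul_right _ (Nat.pow_le_pow_left h4 l)
      _ = 2 ^ l * (p ^ (2 * l) * 2 ^ (6 * k)) := by rw [mul_pow, ← pow_mul]; ring
      _ ≤ 2 ^ l * (p ^ (6 * c) * 2 ^ (6 * k)) := by
          exact Nat.mul_le_mul_left _ (Nat.mul_le_mul_right _ (Nat.pow_le_pow_right (by omega) (by omega)))
      _ ≤ 2 ^ l * (k + 1) ^ (6 * k) := by
          refine Nat.mul_le_mul_left _ ?_
          rw [show 6 * c = c * 6 by ring, show 6 * k = k * 6 by ring, pow_mul, pow_mul, ← mul_pow, pow_mul]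
          exact h2
  have h6 : 2 ^ (4 * k + 3) * (2 ^ l * (k + 1) ^ (3 * l)) ≤ (k + 1) ^ 9 * (2 ^ l * (k + 1) ^ (3 * l)) :=
    calc 2 ^ (4 * k + 3) * (2 ^ l * (k + 1) ^ (3 * l)) = ((k + 1) ^ 3) ^ l * 2 ^ (6 * k) := by
          rw [← pow_mul, ← mul_assoc, ← pow_add, mul_comm, show 4 * k + 3 + l = 6 * k by omega]
      _ ≤ 2 ^ l * (k + 1) ^ (6 * k) := h5
      _ = _ := by rw [show 6 * k = 9 + 3 * l by omega, pow_add]; ring
  exact absurd (Nat.le_of_mul_le_mul_right h6 (by positivity)) (not_le.2 (big_pow k hk6))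

/-- The order of the stabiliser of a set partition with block sizes `s`. -/
def stabOrder (s : Multiset ℕ) : ℕ := (s.map Nat.factorial).prod * ∏ m ∈ s.toFinset, (s.count m).factorial

theorem stabOrder_eq (s : Multiset ℕ) :
    stabOrder s = ∏ m ∈ s.toFinset, (m.factorial ^ s.count m * (s.count m).factorial) := by
  rw [stabOrder, Finset.prod_multiset_map_count, prod_mul_distrib]

/-- The number of set partitions with block sizes `s`. -/
def partCount (s : Multiset ℕ) : ℕ :=
  Nat.multinomial s.toFinset (fun m => s.count m * m) * ∏ m ∈ s.toFinset, Nat.uniformBell (s.count m) m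

theorem stabOrder_mul_partCount (s : Multiset ℕ) (h0 : 0 ∉ s) :
    stabOrder s * partCount s = s.sum.factorial := by
  have e : ∑ m ∈ s.toFinset, s.count m * m = s.sum := by
    rw [Finset.sum_multiset_count s]
    simp only [smul_eq_mul]
  rw [← e, ← Nat.multinomial_spec, stabOrder_eq, partCount, mul_comm (Nat.multinomial _ _), ← mul_assoc,
    ← prod_mul_distrib]
  congr 1
  refine prod_congr rfl fun m hm => ?_
  have hm0 : m ≠ 0 := fun h => h0 (h ▸ Multiset.mem_toFinset.1 hm)
  rw [← Nat.uniformBell_mul_eq (s.count m) hm0]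
  ring

theorem multinomial_dvd {α : Type*} [DecidableEq α] (f : α → ℕ) {t u : Finset α} (htu : t ⊆ u) :
    Nat.multinomial t f ∣ Nat.multinomial u f := by
  obtain ⟨v, rfl⟩ : ∃ v, u = v ∪ t := ⟨u, (union_eq_left.2 htu).symm⟩
  clear htu
  induction v using Finset.induction with
  | empty => simp
  | insert a v ha ih =>
    rw [insert_union]
    by_cases h : a ∈ v ∪ t
    · rwa [insert_eq_of_mem h]
    · rw [Nat.multinomial_insert h]
      exact ih.mul_left _

theorem good_two_mul {p m : ℕ} (hp : p.Prime) (hp5 : 5 ≤ p) (hm : 2 ≤ m) (hmp : m < p)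
    (h : Good p ((2 * m - 1).choose (m - 1))) : p = 5 ∧ m = 4 := by
  by_cases hmp' : m + 1 = p
  · have h4 := middle_case hp hp5 hmp'.symm h
    omega
  exfalso
  rcases lt_or_ge (2 * m) (p + 1) with h2m | h2m
  · -- every prime factor is smaller than `p`
    have h1 : (2 * m - 1).choose (m - 1) ≠ 1 := by
      rw [Ne, Nat.choose_eq_one_iff]
      omega
    obtain ⟨r, hr, hrd⟩ := Nat.exists_prime_and_dvd h1
    refine h r hr ?_ hrd
    have h2 : r ∣ (2 * m - 1).factorial := by
      refine hrd.trans ?_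
      rw [← Nat.choose_mul_factorial_mul_factorial (show m - 1 ≤ 2 * m - 1 by omega)]
      exact Dvd.intro _ (mul_assoc _ _ _).symm
    have := hr.dvd_factorial.1 h2
    omega
  · have e := Nat.choose_succ_right_eq (2 * m - 1) m
    rw [show 2 * m - 1 - m = m - 1 by omega] at e
    have hs : (2 * m - 1).choose m = (2 * m - 1).choose (m - 1) := by
      rw [← Nat.choose_symm (show m ≤ 2 * m - 1 by omega)]
      congr 1
      omega
    rw [hs] at e
    have := (h.coprime (by omega) (show m + 1 < p by omega)).dvd_of_dvd_mul_left ⟨_, e.symm.trans (mul_comm _ _)⟩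
    have := Nat.le_of_dvd (by omega) this
    omega

theorem good_add {p a b : ℕ} (hp : p.Prime) (hp5 : 5 ≤ p) (hb : 1 ≤ b) (hab : b < a) (ha : a < p)
    (h : Good p ((a + b).choose a)) : a + 1 = p ∧ (b = 1 ∨ (p = 5 ∧ b = 3)) := by
  have hab' : a + 1 = p := by
    by_contra hne
    have := shift (p := p) (a := b) (b := a) hb (by omega) (by
      rw [add_comm b a, ← Nat.choose_symm_add]
      exact h)
    have := Nat.le_of_dvd (by omega) this
    omega
  refine ⟨hab', good_choose_cases hp hp5 hb (by omega) ?_⟩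
  rw [show p - 1 = a by omega, ← Nat.choose_symm_add]
  exact h

/-- The set partitions with blocks smaller than `p`, the number of which has no prime factor below `p`. -/
theorem classify {p : ℕ} (hp : p.Prime) (hp5 : 5 ≤ p) (s : Multiset ℕ) (hs : ∀ m ∈ s, 1 ≤ m ∧ m < p)
    (h1 : s.count 1 ≤ 1) (hn : p ≤ s.sum)
    (h : ∀ r k, r.Prime → r < p → r ^ k ∣ s.sum.factorial → r ^ k ∣ stabOrder s) :
    (s.sum = p ∧ s = {1, p - 1}) ∨ (p = 5 ∧ (s = {3, 4} ∨ s = {4, 4})) := by
  have h0 : 0 ∉ s := fun h0 => absurd (hs 0 h0).1 (by norm_num)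
  have hW : stabOrder s ≠ 0 := fun hW => by
    have := stabOrder_mul_partCount s h0
    rw [hW, zero_mul] at this
    exact Nat.factorial_ne_zero _ this.symm
  have hgood : Good p (partCount s) := by
    intro r hr hrp hrd
    have h2 : r ^ ((stabOrder s).factorization r + 1) ∣ s.sum.factorial := by
      rw [← stabOrder_mul_partCount s h0, pow_succ]
      exact mul_dvd_mul (Nat.ordProj_dvd _ _) hrd
    exact Nat.pow_succ_factorization_not_dvd hW hr (h r _ hr hrp h2)
  have hpair : ∀ a b, a ∈ s → b ∈ s → b < a → Good p ((s.count a * a + s.count b * b).choose (s.count a * a)) := by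
    intro a b ha hb hab
    refine hgood.of_dvd (dvd_mul_of_dvd_left ?_ _)
    rw [← Nat.binomial_eq_choose (f := fun m => s.count m * m) (show a ≠ b by omega)]
    refine multinomial_dvd _ ?_
    simp [insert_subset_iff, ha, hb]
  have hbell : ∀ m ∈ s, Good p (Nat.uniformBell (s.count m) m) := fun m hm =>
    hgood.of_dvd (dvd_mul_of_dvd_right (dvd_prod_of_mem (fun m => Nat.uniformBell (s.count m) m) (Multiset.mem_toFinset.2 hm)) _)
  have hrep : ∀ m ∈ s, 2 ≤ s.count m → p = 5 ∧ m = 4 ∧ s.count m = 2 := by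
    intro m hm hc
    have hm1 : 2 ≤ m := by
      rcases Nat.lt_or_ge m 2 with hlt | hge
      · obtain rfl : m = 1 := by have := (hs m hm).1; omega
        omega
      · exact hge
    have hd := hbell m hm
    rw [Nat.uniformBell_eq] at hd
    have h2 := good_two_mul hp hp5 hm1 (hs m hm).2 (hd.of_dvd (by
      rw [show 2 * m - 1 = 1 * m + m - 1 by omega]
      exact dvd_prod_of_mem (fun i => (i * m + m - 1).choose (m - 1)) (mem_range.2 (show 1 < s.count m by omega))))
    obtain ⟨rfl, rfl⟩ := h2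
    refine ⟨rfl, rfl, ?_⟩
    by_contra hne
    have h3 := hd.of_dvd (dvd_prod_of_mem (fun i => (i * 4 + 4 - 1).choose (4 - 1)) (mem_range.2 (show 2 < s.count 4 by omega)))
    exact h3 3 Nat.prime_three (by norm_num) (by decide)
  have hdist : ∀ a b, a ∈ s → b ∈ s → b < a →
      a + 1 = p ∧ s.count b = 1 ∧ s.count a = 1 ∧ (b = 1 ∨ (p = 5 ∧ b = 3)) := by
    intro a b ha hb hab
    have hg := hpair a b ha hb hab
    have ca := Multiset.one_le_count_iff_mem.2 ha
    have cb := Multiset.one_le_count_iff_mem.2 hb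
    have hb1 : s.count b = 1 := by
      by_contra hne
      have := hrep b hb (by omega)
      have := (hs a ha).2
      omega
    rw [hb1, one_mul] at hg
    by_cases ha2 : 2 ≤ s.count a
    · exfalso
      obtain ⟨rfl, rfl, hc⟩ := hrep a ha ha2
      rw [hc] at hg
      have := (hs b hb).1
      interval_cases b
      · exact hg 3 Nat.prime_three (by norm_num) (by decide)
      · exact hg 3 Nat.prime_three (by norm_num) (by decide)
      · exact hg 3 Nat.prime_three (by norm_num) (by decide)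
    · rw [show s.count a = 1 by omega, one_mul] at hg
      obtain ⟨h2, h3⟩ := good_add hp hp5 (hs b hb).1 hab (hs a ha).2 hg
      exact ⟨h2, hb1, by omega, h3⟩
  by_cases huniq : ∀ a ∈ s, ∀ b ∈ s, a = b
  · obtain ⟨a, ha⟩ : ∃ a, a ∈ s := by
      by_contra hne
      push_neg at hne
      rw [Multiset.eq_zero_of_forall_notMem hne] at hn
      simp at hn
      omega
    have hrepl : s = Multiset.replicate (s.count a) a := by
      refine Multiset.ext.2 fun x => ?_
      rw [Multiset.count_replicate]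
      split_ifs with hx
      · rw [hx]
      · exact Multiset.count_eq_zero.2 fun hxs => hx (huniq a ha x hxs)
    have hc : 2 ≤ s.count a := by
      by_contra hlt
      rw [hrepl, Multiset.sum_replicate, smul_eq_mul] at hn
      have := (hs a ha).2
      have : s.count a ≤ 1 := by omega
      nlinarith
    obtain ⟨rfl, rfl, hc2⟩ := hrep a ha hc
    rw [hc2] at hrepl
    exact Or.inr ⟨rfl, Or.inr hrepl⟩
  · push_neg at huniq
    obtain ⟨a, ha, b, hb, hne⟩ := huniq
    wlog hab : b < a generalizing a b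
    · exact this b hb a ha hne.symm (by omega)
    obtain ⟨hap, hcb, hca, hcase⟩ := hdist a b ha hb hab
    have honly : ∀ x ∈ s, x = a ∨ x = b := by
      intro x hx
      by_contra hne'
      push_neg at hne'
      rcases lt_or_gt_of_ne hne'.2 with hxb | hxb
      · have := (hdist b x hb hx hxb).1
        omega
      · have := (hdist x b hx hb hxb).1
        omega
    have hs2 : s = {b, a} := by
      refine Multiset.ext.2 fun x => ?_
      rw [Multiset.insert_eq_cons, Multiset.count_cons, Multiset.count_singleton]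
      by_cases hxa : x = a
      · subst hxa
        rw [hca, if_pos rfl, if_neg (by omega)]
      · by_cases hxb : x = b
        · subst hxb
          rw [hcb, if_pos rfl, if_neg hxa]
        · rw [if_neg hxa, if_neg hxb, Multiset.count_eq_zero.2 fun hx => (honly x hx).elim hxa hxb]
    rcases hcase with rfl | ⟨rfl, rfl⟩
    · left
      rw [hs2, show p - 1 = a by omega, Multiset.insert_eq_cons, Multiset.sum_cons, Multiset.sum_singleton]
      exact ⟨by omega, rfl⟩
    · obtain rfl : a = 4 := by omega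
      exact Or.inr ⟨rfl, Or.inl hs2⟩

end Cfsg.Agent.Lib.HallSym
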