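import Cfsg.Agent.Lib.Hall.Basic
import Cfsg.Prelude.Def_HallClasses

/-!
The Hall properties for sets of primes containing at most one, or all, of the prime divisors of the order.
-/

set_option autoImplicit false

namespace Cfsg.Agent.Lib.HallSym

open Cfsg

universe u

variable {G : Type u} [Group G] [Finite G] {π : Set ℕ}

/-- All prime divisors of the order, or at most one, lie in `π`. -/
def Degenerate (π : Set ℕ) (N : ℕ) : Prop :=
  (∀ r : ℕ, r.Prime → r ∣ N → r ∈ π) ∨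
    ∀ r s : ℕ, r.Prime → s.Prime → r ∈ π → s ∈ π → r ∣ N → s ∣ N → r = s

theorem dPi_cPi_of_degenerate (h : Degenerate π (Nat.card G)) :
    IsDPiGroup π G ∧ IsCPiGroup π G := by
  by_cases hall : ∀ r : ℕ, r.Prime → r ∣ Nat.card G → r ∈ π
  · have htop : IsPiHall π (⊤ : Subgroup G) :=
      ⟨fun q hq hd => hall q hq (by rwa [Subgroup.card_top] at hd), fun q hq _ hd => hq.ne_one (Nat.dvd_one.1 (by rwa [Subgroup.index_top] at hd))⟩
    have hp : IsPiSubgroup π (⊤ : Subgroup G) := htop.1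
    have hmax : ∀ H : Subgroup G, Maximal (IsPiSubgroup π) H → H = ⊤ := fun H hH => top_unique (hH.2 hp le_top)
    have hhall : ∀ H : Subgroup G, IsPiHall π H → H = ⊤ := fun H hH =>
      Cfsg.Agent.Lib.Hall.isPiHall_eq_of_le hH htop.1 le_top
    refine ⟨fun H K hH hK => ⟨1, ?_⟩, ⟨⊤, htop⟩, fun H K hH hK => ⟨1, ?_⟩⟩
    · rw [hmax H hH, hmax K hK, Subgroup.map_top_of_surjective _ (MulAut.conj (1 : G)).surjective]
    · rw [hhall H hH, hhall K hK, Subgroup.map_top_of_surjective _ (MulAut.conj (1 : G)).surjective]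
  have hone := h.resolve_left hall
  -- the prime of `π` dividing the order, or any prime
  obtain ⟨r, hr, hrπ⟩ : ∃ r : ℕ, r.Prime ∧ ∀ q : ℕ, q.Prime → q ∈ π → q ∣ Nat.card G → q = r := by
    by_cases hex : ∃ r : ℕ, r.Prime ∧ r ∈ π ∧ r ∣ Nat.card G
    · obtain ⟨r, hr, hrπ, hrd⟩ := hex
      exact ⟨r, hr, fun q hq hqπ hqd => hone q r hq hr hqπ hrπ hqd hrd⟩
    · exact ⟨2, Nat.prime_two, fun q hq hqπ hqd => absurd ⟨q, hq, hqπ, hqd⟩ hex⟩
  haveI : Fact r.Prime := ⟨hr⟩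
  have hsub : ∀ H : Subgroup G, IsPiSubgroup π H → IsPGroup r H := by
    intro H hH
    refine IsPGroup.of_card (n := (Nat.card H).primeFactorsList.length) ?_
    exact Nat.eq_prime_pow_of_unique_prime_dvd Nat.card_pos.ne' fun {q} hq hqd =>
      hrπ q hq (hH q hq hqd) (hqd.trans H.card_subgroup_dvd_card)
  by_cases hrmem : r ∈ π ∧ r ∣ Nat.card G
  · have hP : ∀ P : Sylow r G, IsPiHall π (P : Subgroup G) := by
      refine fun P => ⟨fun q hq hd => ?_, fun q hq hqπ hd => ?_⟩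
      · obtain ⟨j, hj⟩ := P.2.exists_card_eq
        rw [hj] at hd
        rw [(Nat.prime_dvd_prime_iff_eq hq hr).1 (hq.dvd_of_dvd_pow hd)]
        exact hrmem.1
      · obtain rfl := hrπ q hq hqπ (hd.trans (P : Subgroup G).index_dvd_card)
        exact P.not_dvd_index hd
    have hconj : ∀ P Q : Sylow r G, ∃ g : G, (Q : Subgroup G) = (P : Subgroup G).map (MulAut.conj g).toMonoidHom := by
      intro P Q
      obtain ⟨g, hg⟩ := MulAction.exists_smul_eq G P Q
      exact ⟨g, by rw [← hg, Sylow.coe_subgroup_smul]; rfl⟩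
    refine ⟨fun H K hH hK => ?_, ⟨_, hP default⟩, fun H K hH hK => ?_⟩
    · obtain ⟨P, hHP⟩ := (hsub H hH.1).exists_le_sylow
      obtain ⟨Q, hKQ⟩ := (hsub K hK.1).exists_le_sylow
      rw [le_antisymm hHP (hH.2 (hP P).1 hHP), le_antisymm hKQ (hK.2 (hP Q).1 hKQ)]
      exact hconj P Q
    · obtain ⟨P, hHP⟩ := (hsub H hH.1).exists_le_sylow
      obtain ⟨Q, hKQ⟩ := (hsub K hK.1).exists_le_sylow
      rw [Cfsg.Agent.Lib.Hall.isPiHall_eq_of_le hH (hP P).1 hHP, Cfsg.Agent.Lib.Hall.isPiHall_eq_of_le hK (hP Q).1 hKQ]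
      exact hconj P Q
  · have hbot : ∀ H : Subgroup G, IsPiSubgroup π H → H = ⊥ := by
      intro H hH
      refine Subgroup.eq_bot_of_card_eq _ (Nat.eq_one_iff_not_exists_prime_dvd.2 fun q hq hqd => hrmem ?_)
      have hd := hqd.trans H.card_subgroup_dvd_card
      rw [← hrπ q hq (hH q hq hqd) hd]
      exact ⟨hH q hq hqd, hd⟩
    have hHall : IsPiHall π (⊥ : Subgroup G) :=
      ⟨fun q hq hd => absurd (Nat.dvd_one.1 (by rwa [Subgroup.card_bot] at hd)) hq.ne_one, fun q hq hqπ hd => hrmem (by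
        rw [Subgroup.index_bot] at hd
        rw [← hrπ q hq hqπ hd]
        exact ⟨hqπ, hd⟩)⟩
    refine ⟨fun H K hH hK => ⟨1, ?_⟩, ⟨⊥, hHall⟩, fun H K hH hK => ⟨1, ?_⟩⟩
    · rw [hbot H hH.1, hbot K hK.1, Subgroup.map_bot]
    · rw [hbot H hH.1, hbot K hK.1, Subgroup.map_bot]

end Cfsg.Agent.Lib.HallSym
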