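import Cfsg.Agent.Lib.HallSym.Alt
import Cfsg.Agent.Lib.HallSym.Trivial

/-!
The Hall properties of symmetric and alternating groups.
-/

set_option autoImplicit false

namespace Cfsg.Agent.Lib.HallSym

open Equiv Cfsg

variable {n : ℕ} {π : Set ℕ}

theorem prime_le_of_dvd_perm {q : ℕ} (hq : q.Prime) (h : q ∣ Nat.card (Perm (Fin n))) : q ≤ n := by
  rw [Nat.card_perm, Nat.card_fin] at h
  exact hq.dvd_factorial.1 h

theorem prime_le_of_dvd_alt {q : ℕ} (hq : q.Prime) (h : q ∣ Nat.card (alternatingGroup (Fin n))) : q ≤ n :=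
  prime_le_of_dvd_perm hq (h.trans (Subgroup.card_subgroup_dvd_card _))

theorem proper_or_degenerate : Proper π (Fintype.card (Fin n)) ∨
    (Degenerate π (Nat.card (Perm (Fin n))) ∧ Degenerate π (Nat.card (alternatingGroup (Fin n)))) := by
  rw [Fintype.card_fin]
  by_cases hall : ∀ r : ℕ, r.Prime → r ≤ n → r ∈ π
  · exact Or.inr ⟨Or.inl fun r hr hd => hall r hr (prime_le_of_dvd_perm hr hd),
      Or.inl fun r hr hd => hall r hr (prime_le_of_dvd_alt hr hd)⟩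
  push_neg at hall
  by_cases htwo : ∃ r s : ℕ, r.Prime ∧ s.Prime ∧ r ≠ s ∧ r ∈ π ∧ s ∈ π ∧ r ≤ n ∧ s ≤ n
  · exact Or.inl ⟨htwo, hall⟩
  refine Or.inr ⟨Or.inr fun r s hr hs hrπ hsπ hrd hsd => ?_, Or.inr fun r s hr hs hrπ hsπ hrd hsd => ?_⟩
  · by_contra hne
    exact htwo ⟨r, s, hr, hs, hne, hrπ, hsπ, prime_le_of_dvd_perm hr hrd, prime_le_of_dvd_perm hs hsd⟩
  · by_contra hne
    exact htwo ⟨r, s, hr, hs, hne, hrπ, hsπ, prime_le_of_dvd_alt hr hrd, prime_le_of_dvd_alt hs hsd⟩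

theorem exists_perm_of_alt {M : Subgroup (alternatingGroup (Fin n))} (hM : IsPiHall π M) :
    ∃ M₀ : Subgroup (Perm (Fin n)), IsPiHall π M₀ ∧ M = M₀.subgroupOf (alternatingGroup (Fin n)) := by
  rcases proper_or_degenerate (n := n) (π := π) with h | ⟨hS, hA⟩
  · exact h.exists_of_alt hM
  obtain ⟨⟨M₁, hM₁⟩, -⟩ := (dPi_cPi_of_degenerate hS).2
  have hM₁' := Cfsg.Agent.Lib.Hall.isPiHall_subgroupOf_normal (H := M₁) hM₁ (alternatingGroup (Fin n))
  obtain ⟨a, ha⟩ := (dPi_cPi_of_degenerate hA).2.2 _ _ hM₁' hM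
  refine ⟨_, Cfsg.Agent.Lib.Hall.isPiHall_conj hM₁ (a : Perm (Fin n)), ?_⟩
  rw [ha]
  ext x
  constructor
  · rintro ⟨y, hy, rfl⟩
    rw [Subgroup.mem_subgroupOf, Subgroup.mem_pointwise_smul_iff_inv_smul_mem]
    show (MulAut.conj (a : Perm (Fin n)))⁻¹ ((a * y * a⁻¹ : alternatingGroup (Fin n)) : Perm (Fin n)) ∈ M₁
    simpa [mul_assoc] using Subgroup.mem_subgroupOf.1 hy
  · intro hx
    rw [Subgroup.mem_subgroupOf, Subgroup.mem_pointwise_smul_iff_inv_smul_mem] at hx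
    refine ⟨a⁻¹ * x * a, ?_, ?_⟩
    · rw [SetLike.mem_coe, Subgroup.mem_subgroupOf]
      simpa [mul_assoc] using hx
    · show a * (a⁻¹ * x * a) * a⁻¹ = x
      group

theorem conj_alt {M M' : Subgroup (alternatingGroup (Fin n))} (hM : IsPiHall π M) (hM' : IsPiHall π M') :
    ∃ g : alternatingGroup (Fin n), M' = M.map (MulAut.conj g).toMonoidHom := by
  rcases proper_or_degenerate (n := n) (π := π) with h | ⟨-, hA⟩
  swap
  · exact (dPi_cPi_of_degenerate hA).2.2 M M' hM hM'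
  obtain ⟨M₀, hM₀, rfl⟩ := h.exists_of_alt hM
  obtain ⟨M₁, hM₁, rfl⟩ := h.exists_of_alt hM'
  obtain ⟨g, hg⟩ := h.conj_perm hM₀ hM₁
  obtain ⟨p, -, hp5, -, hcut, -⟩ := h.structure_of_full (h.eq_blockStab hM₀).2
  have h2n : 2 ≤ n := by
    obtain ⟨r, s, hr, -, -, -, -, hrn, -⟩ := h.two
    rw [Fintype.card_fin] at hrn
    exact hr.two_le.trans hrn
  have h2π : 2 ∈ π := (hcut 2 Nat.prime_two (by rw [Fintype.card_fin]; exact h2n)).2 (by omega)
  haveI : Nontrivial (Fin n) := Fin.nontrivial_iff_two_le.2 h2n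
  obtain ⟨s, hs, hsA⟩ : ∃ s ∈ M₀, s ∉ alternatingGroup (Fin n) := by
    by_contra hne
    push_neg at hne
    refine hM₀.2 2 Nat.prime_two h2π ?_
    rw [← alternatingGroup.index_eq_two (α := Fin n)]
    exact Subgroup.index_dvd_of_le hne
  rw [Perm.mem_alternatingGroup] at hsA
  obtain ⟨t, ht, htA⟩ : ∃ t ∈ M₀, g * t ∈ alternatingGroup (Fin n) := by
    rcases Int.units_eq_one_or (Perm.sign g) with e | e
    · exact ⟨1, one_mem _, by rw [Perm.mem_alternatingGroup, mul_one, e]⟩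
    · refine ⟨s, hs, ?_⟩
      rw [Perm.mem_alternatingGroup, map_mul, e, (Int.units_eq_one_or _).resolve_left hsA]
      rfl
  refine ⟨⟨g * t, htA⟩, ?_⟩
  subst hg
  ext x
  rw [Subgroup.mem_subgroupOf, Subgroup.mem_map_equiv, Subgroup.mem_map_equiv, Subgroup.mem_subgroupOf]
  simp only [MulAut.conj_symm_apply, Subgroup.coe_mul, Subgroup.coe_inv, mul_inv_rev]
  rw [show t⁻¹ * g⁻¹ * (x : Perm (Fin n)) * (g * t) = t⁻¹ * (g⁻¹ * x * g) * t by group]
  constructor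
  · exact fun hx => mul_mem (mul_mem (inv_mem ht) hx) ht
  · intro hx
    have := mul_mem (mul_mem ht hx) (inv_mem ht)
    rwa [show t * (t⁻¹ * (g⁻¹ * (x : Perm (Fin n)) * g) * t) * t⁻¹ = g⁻¹ * x * g by group] at this

theorem conj_perm {M M' : Subgroup (Perm (Fin n))} (hM : IsPiHall π M) (hM' : IsPiHall π M') :
    ∃ g : Perm (Fin n), M' = M.map (MulAut.conj g).toMonoidHom := by
  rcases proper_or_degenerate (n := n) (π := π) with h | ⟨hS, -⟩
  · exact h.conj_perm hM hM'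
  · exact (dPi_cPi_of_degenerate hS).2.2 M M' hM hM'

end Cfsg.Agent.Lib.HallSym
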